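import Groth.Agent.Lib.BvdB9.Cov
import Groth.Agent.Lib.DbCohProj9.Main
import Mathlib.CategoryTheory.Adjunction.Basic

/-! Adjoints of exact functors between categories of perfect objects. -/

set_option autoImplicit false
set_option linter.unusedSectionVars false
set_option linter.style.haveILetI false
set_option backward.isDefEq.respectTransparency false
set_option backward.isDefEq.respectTransparency.types false
set_option maxHeartbeats 1600000

universe u

open CategoryTheory CategoryTheory.Limits AlgebraicGeometry CategoryTheory.Pretriangulated Opposite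

attribute [local instance] HasDerivedCategory.standard

noncomputable section

namespace Groth.Agent.BvdB9

variable (k : Type u) [Field k] {Y : Scheme.{u}} [Y.Over (Spec (CommRingCat.of k))]
  [IsProper (Y ↘ Spec (CommRingCat.of k))]

include k in
/-- Perfect objects of a scheme of finite type over a field are bounded coherent. -/
theorem cohbP_of_isPerfect {B : DCoh.D Y} (hB : DCoh.IsPerfect B) : SGA6.cohbP Y B := by
  haveI : IsLocallyNoetherian Y := LocallyOfFiniteType.isLocallyNoetherian (Y ↘ Spec (CommRingCat.of k))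
  haveI : CompactSpace Y := QuasiCompact.compactSpace_of_compactSpace (Y ↘ Spec (CommRingCat.of k))
  obtain ⟨b, hb⟩ := DPerf.exists_isLE_of_pseudoCoherent (DGen9.isPseudoCoherentD_of_isPerfect hB 0)
  obtain ⟨a, ha⟩ := DPerf.exists_isGE_of_perfect hB
  exact ⟨fun i => DPerf.isCoh_HD_of_pseudoCoherent (DGen9.isPseudoCoherentD_of_isPerfect hB i)
    (DGen9.isQCohD_of_isPerfect hB i) le_rfl, a, b, ha, hb⟩

variable [(SGA6.perfP Y).IsTriangulated]

/-- Maps in the category of perfect objects. -/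
def homEquivT (A B : (SGA6.perfP Y).FullSubcategory) :
    (A ⟶ B) ≃ₗ[k] ((ObjectProperty.ι (SGA6.perfP Y)).obj A ⟶ (ObjectProperty.ι (SGA6.perfP Y)).obj B) :=
  LinearEquiv.ofBijective ((ObjectProperty.ι (SGA6.perfP Y)).mapLinearMap k)
    ((ObjectProperty.fullyFaithfulι _).map_bijective A B)

theorem finite_hom_target (A B : (SGA6.perfP Y).FullSubcategory) :
    (∀ n : ℤ, Module.Finite k (A ⟶ B⟦n⟧)) ∧ Set.Finite {n : ℤ | Nontrivial (A ⟶ B⟦n⟧)} := by
  let ι := ObjectProperty.ι (SGA6.perfP Y)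
  obtain ⟨hf, hs⟩ := DbCohProj9.finite_perfect_cohbP (k := k) (K := ι.obj B) (E := ι.obj A)
    (cohbP_of_isPerfect k B.property) A.property
  let e : ∀ n : ℤ, (A ⟶ B⟦n⟧) ≃ₗ[k] (ι.obj A ⟶ (ι.obj B)⟦n⟧) := fun n =>
    (homEquivT k A (B⟦n⟧)).trans (Linear.homCongr k (Iso.refl _) ((ι.commShiftIso n).app B))
  refine ⟨fun n => ?_, hs.subset fun n hn => (e n).toEquiv.nontrivial_congr.1 hn⟩
  haveI := hf n
  exact Module.Finite.equiv (e n).symm

theorem finite_hom_source (A B : (SGA6.perfP Y).FullSubcategory) :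
    (∀ n : ℤ, Module.Finite k (A⟦n⟧ ⟶ B)) ∧ Set.Finite {n : ℤ | Nontrivial (A⟦n⟧ ⟶ B)} := by
  let ι := ObjectProperty.ι (SGA6.perfP Y)
  obtain ⟨hf, hs⟩ := DbCohProj9.finite_perfect_cohbP (k := k) (K := ι.obj B) (E := ι.obj A)
    (cohbP_of_isPerfect k B.property) A.property
  have he : ∀ n : ℤ, Nonempty ((A⟦n⟧ ⟶ B) ≃ₗ[k] (ι.obj A ⟶ (ι.obj B)⟦-n⟧)) := fun n => by
    let F := shiftFunctor (DCoh.D Y) n
    let A₁ := (homEquivT k (A⟦n⟧) B).trans (Linear.homCongr k ((ι.commShiftIso n).app A)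
      ((shiftFunctorCompIsoId (DCoh.D Y) (-n) n (neg_add_cancel n)).app (ι.obj B)).symm)
    let A₃ : (ι.obj A ⟶ (ι.obj B)⟦-n⟧) ≃ₗ[k] (F.obj (ι.obj A) ⟶ F.obj ((ι.obj B)⟦-n⟧)) :=
      LinearEquiv.ofBijective (F.mapLinearMap k) ((Functor.FullyFaithful.ofFullyFaithful F).map_bijective _ _)
    exact ⟨A₁.trans A₃.symm⟩
  refine ⟨fun n => ?_, (hs.image fun m => -m).subset fun n hn => ?_⟩
  · obtain ⟨e⟩ := he n
    haveI := hf (-n)
    exact Module.Finite.equiv e.symm
  · obtain ⟨e⟩ := he n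
    exact ⟨-n, e.toEquiv.nontrivial_congr.1 hn, neg_neg n⟩

variable {X : Scheme.{u}} [X.Over (Spec (CommRingCat.of k))] [IsProper (X ↘ Spec (CommRingCat.of k))]
  [(SGA6.perfP X).IsTriangulated] (hreg : Models.IsRegularScheme X)
  (F : (SGA6.perfP X).FullSubcategory ⥤ (SGA6.perfP Y).FullSubcategory) [F.Additive] [F.Linear k]
  [F.CommShift ℤ] [F.IsTriangulated]

include k hreg in
theorem exists_right_equiv (B : (SGA6.perfP Y).FullSubcategory) :
    ∃ (K : (SGA6.perfP X).FullSubcategory) (e : ∀ A, (F.obj A ⟶ B) ≃ (A ⟶ K)),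
      ∀ (A' A : (SGA6.perfP X).FullSubcategory) (f : A' ⟶ A) (g : F.obj A ⟶ B),
        e A' (F.map f ≫ g) = f ≫ e A g := by
  let H : ((SGA6.perfP X).FullSubcategory)ᵒᵖ ⥤ ModuleCat.{u + 1} k :=
    F.op ⋙ (linearYoneda k (SGA6.perfP Y).FullSubcategory).obj B
  obtain ⟨N, hN, ⟨e⟩⟩ := S6746.result k X hreg H
    (fun A A' r f => ModuleCat.hom_ext (LinearMap.ext fun (g : F.obj A' ⟶ B) => by
      show F.map (r • f) ≫ g = r • (F.map f ≫ g)
      rw [F.map_smul, Linear.smul_comp]))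
    (fun T hT h₁ h₂ h₃ (y : F.obj ⟨T.obj₂, h₂⟩ ⟶ B) hy => by
      let A₁ : (SGA6.perfP X).FullSubcategory := ⟨T.obj₁, h₁⟩
      let A₂ : (SGA6.perfP X).FullSubcategory := ⟨T.obj₂, h₂⟩
      let A₃ : (SGA6.perfP X).FullSubcategory := ⟨T.obj₃, h₃⟩
      let ι := ObjectProperty.ι (SGA6.perfP X)
      let c : A₃ ⟶ A₁⟦(1 : ℤ)⟧ := ObjectProperty.homMk (T.mor₃ ≫ (ι.commShiftIso (1 : ℤ)).inv.app A₁)
      let T' : Triangle (SGA6.perfP X).FullSubcategory :=
        Triangle.mk (ObjectProperty.homMk T.mor₁ : A₁ ⟶ A₂) (ObjectProperty.homMk T.mor₂ : A₂ ⟶ A₃) c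
      have hT' : T' ∈ distTriang _ := distinguished_fullSub T hT h₁ h₂ h₃
      obtain ⟨z, hz⟩ := Triangle.yoneda_exact₂ _ (F.map_distinguished T' hT') y hy
      exact ⟨z, hz.symm⟩)
    fun A => by
      obtain ⟨hf, hs⟩ := finite_hom_source k (F.obj A) B
      let E : ∀ n : ℤ, (F.obj (A⟦n⟧) ⟶ B) ≃ₗ[k] ((F.obj A)⟦n⟧ ⟶ B) := fun n =>
        Linear.homCongr k ((F.commShiftIso n).app A) (Iso.refl B)
      refine ⟨fun n => ?_, hs.subset fun n hn => (E n).toEquiv.nontrivial_congr.1 hn⟩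
      haveI := hf n
      exact Module.Finite.equiv (E n).symm
  let K : (SGA6.perfP X).FullSubcategory := ⟨N, hN⟩
  let θ : ∀ A, (F.obj A ⟶ B) ≃ (A ⟶ K) := fun A =>
    (e.app (op A)).toLinearEquiv.toEquiv.trans (homEquivT k A K).symm.toEquiv
  refine ⟨K, θ, fun A' A f g => (homEquivT k A' K).injective ?_⟩
  show (homEquivT k A' K) ((homEquivT k A' K).symm (e.hom.app (op A') (F.map f ≫ g))) =
    (f ≫ (homEquivT k A K).symm (e.hom.app (op A) g)).hom
  rw [LinearEquiv.apply_symm_apply]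
  refine (congrArg (fun t : H.obj (op A) ⟶ _ => t g) (e.hom.naturality f.op)).trans ?_
  exact congrArg (f.hom ≫ ·) ((homEquivT k A K).apply_symm_apply _).symm

include k hreg in
theorem exists_left_equiv (B : (SGA6.perfP Y).FullSubcategory) :
    ∃ (K : (SGA6.perfP X).FullSubcategory) (e : ∀ A, (K ⟶ A) ≃ (B ⟶ F.obj A)),
      ∀ (A A' : (SGA6.perfP X).FullSubcategory) (g : A ⟶ A') (h : K ⟶ A),
        e A' (h ≫ g) = e A h ≫ F.map g := by
  let G : (SGA6.perfP X).FullSubcategory ⥤ ModuleCat.{u + 1} k :=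
    F ⋙ (linearCoyoneda k (SGA6.perfP Y).FullSubcategory).obj (op B)
  haveI : G.Linear k := ⟨fun f r => ModuleCat.hom_ext (LinearMap.ext fun (g : B ⟶ _) => by
    show g ≫ F.map (r • f) = r • (g ≫ F.map f)
    rw [F.map_smul, Linear.comp_smul])⟩
  haveI : ((linearCoyoneda k (SGA6.perfP Y).FullSubcategory).obj (op B)).IsHomological := ⟨fun T hT => by
    rw [ShortComplex.moduleCat_exact_iff]
    intro (x : B ⟶ T.obj₂) (hx : x ≫ T.mor₂ = 0)
    obtain ⟨w, hw⟩ := T.coyoneda_exact₂ hT x hx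
    exact ⟨w, hw.symm⟩⟩
  obtain ⟨K, ⟨e⟩⟩ := exists_corep_perfect G hreg fun A => by
    obtain ⟨hf, hs⟩ := finite_hom_target k B (F.obj A)
    let E : ∀ n : ℤ, (B ⟶ F.obj (A⟦n⟧)) ≃ₗ[k] (B ⟶ (F.obj A)⟦n⟧) := fun n =>
      Linear.homCongr k (Iso.refl B) ((F.commShiftIso n).app A)
    refine ⟨fun n => ?_, hs.subset fun n hn => (E n).toEquiv.nontrivial_congr.1 hn⟩
    haveI := hf n
    exact Module.Finite.equiv (E n).symm
  refine ⟨K, fun A => (e.app A).toLinearEquiv.toEquiv.symm, fun A A' g h => ?_⟩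
  exact congrArg (fun t : _ ⟶ G.obj A' => t h) (e.inv.naturality g)

include k hreg in
/-- Exact functors out of perfect objects of a regular proper scheme have both adjoints. -/
theorem adjoints : F.IsLeftAdjoint ∧ F.IsRightAdjoint := by
  choose R eR hR using fun B => exists_right_equiv k hreg F B
  choose L eL hL using fun B => exists_left_equiv k hreg F B
  exact ⟨(Adjunction.adjunctionOfEquivRight (F := F) (G_obj := R) (fun A B => eR B A)
      fun A' A B f g => hR B A' A f g).isLeftAdjoint,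
    (Adjunction.adjunctionOfEquivLeft (G := F) (F_obj := L) (fun B A => eL B A)
      fun B A A' g h => hL B A A' g h).isRightAdjoint⟩

end Groth.Agent.BvdB9
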