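import Groth.Agent.Lib.BvdB9.Finite
import Groth.Agent.Lib.PtBd9.Slice
import Groth.Agent.Lib.FMAdj9.ConvPerf
import Groth.Agent.Lib.FMAdj9.DlzField
import Groth.Agent.Lib.DGen9.Coherent
import Groth.Agent.Lib.DGen9.PerfMain
import Groth.Agent.Lib.WeilExt.Regular
import Groth.Prelude.Def_Models

/-! Finiteness of maps from perfect objects gives bounded coherence on a regular proper scheme. -/

set_option autoImplicit false
set_option linter.style.haveILetI false
set_option linter.unusedSectionVars false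
set_option backward.isDefEq.respectTransparency false
set_option backward.isDefEq.respectTransparency.types false
set_option maxHeartbeats 3200000

universe u

open CategoryTheory CategoryTheory.Limits AlgebraicGeometry MonoidalCategory
open Groth.Agent.TwistBC9 (oneD modM)

attribute [local instance] HasDerivedCategory.standard

noncomputable section

namespace Groth.Agent.BvdB9

open DMon9

attribute [local instance] DBC9.hasRpush SerreP9.selfOver DbCohPn9.overPn

/-- Bounded coherence restricts to open subschemes. -/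
theorem cohbP_resD {Z X : Scheme.{u}} (j : Z ⟶ X) [IsOpenImmersion j] {C : DCoh.D X} (h : SGA6.cohbP X C) :
    SGA6.cohbP Z ((DPerf.resD j).obj C) := by
  obtain ⟨hc, a, b, ha, hb⟩ := h
  exact ⟨fun i => CohFound.isCoh_of_iso (DPerf.hdResIso j C i).symm (DPerf.isCoh_restrict (hc i) j), a, b,
    (DerivedCategory.isGE_iff _ _).2 fun i hi => ((Scheme.Modules.restrictFunctor j).map_isZero
      ((DerivedCategory.isGE_iff _ _).1 ha i hi)).of_iso (DPerf.hdResIso j C i),
    (DerivedCategory.isLE_iff _ _).2 fun i hi => ((Scheme.Modules.restrictFunctor j).map_isZero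
      ((DerivedCategory.isLE_iff _ _).1 hb i hi)).of_iso (DPerf.hdResIso j C i)⟩

/-- A closed immersion detects bounded coherence. -/
theorem cohbP_of_rpush {Z X : Scheme.{u}} (i : Z ⟶ X) [IsClosedImmersion i] {C : DCoh.D Z}
    (hq : DCoh.IsQCohD C) (h : SGA6.cohbP X ((DCoh.Rpush i).obj C)) : SGA6.cohbP Z C := by
  obtain ⟨r⟩ := RHom.nonempty_rpushIso i
  obtain ⟨hc, a, b, ha, hb⟩ := DbCohPn9.cohbP_iso (r.app C) h
  exact ⟨fun j => ⟨hq j, RelPCS8.isFT_of_push i (CohFound.isCoh_of_iso (RelPCS8.hdPushDIso i C j) (hc j)).2⟩, a, b,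
    (DerivedCategory.isGE_iff _ _).2 fun j hj =>
      (RelPCS8.isZero_HD_push_iff i C j).1 ((DerivedCategory.isGE_iff _ _).1 ha j hj),
    (DerivedCategory.isLE_iff _ _).2 fun j hj =>
      (RelPCS8.isZero_HD_push_iff i C j).1 ((DerivedCategory.isLE_iff _ _).1 hb j hj)⟩

/-- Bounded coherence is local. -/
theorem cohbP_of_cover {X : Scheme.{u}} [CompactSpace X] {K : DCoh.D X} (hK : DCoh.IsQCohD K)
    (h : ∀ x : X, ∃ U : X.Opens, x ∈ U ∧ SGA6.cohbP (U : Scheme.{u}) ((DPerf.resD U.ι).obj K)) :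
    SGA6.cohbP X K := by
  choose U hx hU using h
  refine ⟨fun i => DPerf.isCoh_of_isFT_of_isQCoh (hK i)
    (M1.isFT_of_openImmersion_cover (fun x : X => (U x).ι) (fun x => ⟨x, ⟨⟨x, hx x⟩, rfl⟩⟩) fun x =>
      (CohFound.isCoh_of_iso (DPerf.hdResIso (U x).ι K i) ((hU x).1 i)).2), ?_⟩
  obtain ⟨a, ha⟩ := DPerf.exists_isGE_of_locally (K := K) fun x => by
    obtain ⟨-, a, b, ha, hb⟩ := hU x
    exact ⟨U x, a, hx x, ha⟩
  obtain ⟨b, hb⟩ := DPerf.exists_isLE_of_locally (K := K) fun x => by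
    obtain ⟨-, a, b, ha, hb⟩ := hU x
    exact ⟨U x, b, hx x, hb⟩
  exact ⟨a, b, ha, hb⟩

variable {k : Type u} [Field k] {X : Scheme.{u}} [X.Over (Spec (CommRingCat.of k))]
  [IsProper (X ↘ Spec (CommRingCat.of k))]

local notation "ff" => (X ↘ Spec (CommRingCat.of k))

/-- An affine open of a scheme of finite type is closed in an affine open of projective space. -/
theorem exists_chart (U : X.Opens) (hU : IsAffineOpen U) :
    ∃ (n : ℕ) (V : (CohB1.ProjSpace n k).Opens) (g : (U : Scheme.{u}) ⟶ (V : Scheme.{u})),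
      IsClosedImmersion g ∧ g ≫ V.ι ≫ CohB1.ProjSpace.toSpec n k = U.ι ≫ ff := by
  let B := Γ(X, U)
  let φ₀ : CommRingCat.of k ⟶ B := Spec.preimage (hU.fromSpec ≫ ff)
  have hφ₀ : Spec.map φ₀ = hU.fromSpec ≫ ff := Spec.map_preimage _
  letI : Algebra k B := φ₀.hom.toAlgebra
  haveI : LocallyOfFiniteType (Spec.map φ₀) := by rw [hφ₀]; infer_instance
  haveI : Algebra.FiniteType k B := by
    exact (HasRingHomProperty.Spec_iff (P := @LocallyOfFiniteType)).1 (show LocallyOfFiniteType (Spec.map φ₀) from inferInstance)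
  obtain ⟨n, F, hF⟩ := Algebra.FiniteType.iff_quotient_mvPolynomial''.1 (inferInstance : Algebra.FiniteType k B)
  let φ : CommRingCat.of (MvPolynomial (Fin n) k) ⟶ B := CommRingCat.ofHom F.toRingHom
  haveI : IsClosedImmersion (Spec.map φ) := IsClosedImmersion.spec_of_surjective _ hF
  let j := BC8.polyToProj k n
  refine ⟨n, j.opensRange, hU.isoSpec.hom ≫ Spec.map φ ≫ j.isoOpensRange.hom, inferInstance, ?_⟩
  simp only [Category.assoc]
  rw [Scheme.Hom.isoOpensRange_hom_ι_assoc, BC8.polyToProj_toSpec, ← Spec.map_comp,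
    show CommRingCat.ofHom (algebraMap k (MvPolynomial (Fin n) k)) ≫ φ = φ₀ from ?_, hφ₀, ← Category.assoc,
    IsAffineOpen.isoSpec_hom_fromSpec]
  ext t
  exact F.commutes t

/-- Bounded coherence on an affine open. -/
theorem cohbP_resD_affine (hreg : Models.IsRegularScheme X) {K : DCoh.D X} (hK : DCoh.IsQCohD K) (h : HasFin k K)
    (U : X.Opens) (hU : IsAffineOpen U) : SGA6.cohbP (U : Scheme.{u}) ((DPerf.resD U.ι).obj K) := by
  obtain ⟨n, V, g₀, hg₀, hw⟩ := exists_chart (k := k) U hU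
  haveI := hg₀
  let P := CohB1.ProjSpace n k
  let π := CohB1.ProjSpace.toSpec n k
  let f := ff
  haveI : IsLocallyNoetherian X := LocallyOfFiniteType.isLocallyNoetherian ff
  haveI : Smooth π := ProjSpace.smooth_toSpec n k
  let Q := Limits.pullback ff π
  let p : Q ⟶ X := pullback.fst _ _
  let q : Q ⟶ P := pullback.snd _ _
  have hpq : p ≫ ff = q ≫ π := pullback.condition
  haveI : IsProper p := inferInstance
  haveI : Smooth p := inferInstance
  haveI : IsLocallyNoetherian Q := LocallyOfFiniteType.isLocallyNoetherian p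
  haveI : CompactSpace X := QuasiCompact.compactSpace_of_compactSpace ff
  haveI : CompactSpace Q := QuasiCompact.compactSpace_of_compactSpace p
  haveI : IsNoetherian Q := { }
  haveI : IsNoetherian P := FMAdj9.isNoetherian_proj k n
  haveI : IsProper q := inferInstance
  let W : Q.Opens := q ⁻¹ᵁ V
  let qW : (W : Scheme.{u}) ⟶ (V : Scheme.{u}) := q ∣_ V
  have hsq : IsPullback qW W.ι V.ι q := isPullback_morphismRestrict q V
  haveI : IsProper qW := inferInstance
  let γ : (U : Scheme.{u}) ⟶ (W : Scheme.{u}) :=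
    hsq.lift g₀ (pullback.lift U.ι (g₀ ≫ V.ι) (by rw [Category.assoc]; exact hw.symm))
      (pullback.lift_snd _ _ _).symm
  have hγq : γ ≫ qW = g₀ := hsq.lift_fst _ _ _
  have hγp : γ ≫ W.ι ≫ p = U.ι := by
    rw [← Category.assoc, show γ ≫ W.ι = _ from hsq.lift_snd _ _ _]
    exact pullback.lift_fst _ _ _
  haveI : IsClosedImmersion γ := by
    haveI : IsClosedImmersion (γ ≫ qW) := by rw [hγq]; infer_instance
    exact IsClosedImmersion.of_comp γ qW
  haveI : IsAffine (U : Scheme.{u}) := hU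
  haveI : IsLocallyNoetherian (U : Scheme.{u}) := LocallyOfFiniteType.isLocallyNoetherian U.ι
  let O : DCoh.D (U : Scheme.{u}) := DCoh.inD _ (Coh.structureModule (U : Scheme.{u}))
  have hO : DCoh.IsQCohD O := Exact8.isQCohD_single (M1.isQCoh_structureModule _)
  let F : DCoh.D (W : Scheme.{u}) := (DCoh.Rpush γ).obj O
  obtain ⟨rγ⟩ := RHom.nonempty_rpushIso γ
  let eF : F ≅ DCoh.inD _ ((Coh.push γ).obj (Coh.structureModule (U : Scheme.{u}))) :=
    rγ.app _ ≪≫ ((Scheme.Modules.pushforward γ).mapDerivedCategorySingleFunctor 0).app _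
  haveI : F.IsGE 0 := DerivedCategory.TStructure.t.isGE_of_iso eF.symm 0
  haveI : F.IsLE 0 := DerivedCategory.TStructure.t.isLE_of_iso eF.symm 0
  have hFc : DCoh.IsCohD F := fun i => CohFound.isCoh_of_iso
    ((DerivedCategory.homologyFunctor _ i).mapIso eF.symm) (by
      rcases eq_or_ne i 0 with rfl | hi
      · exact CohFound.isCoh_of_iso ((DerivedCategory.singleFunctorCompHomologyFunctorIso _ 0).app _).symm
          (CohFound.isCoh_push_closedImm γ (M1.isCoh_structureModule _))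
      · rcases lt_or_gt_of_ne hi with hi | hi
        · exact DPerf.isCoh_of_isZero (DerivedCategory.isZero_of_isGE _ 0 i hi)
        · exact DPerf.isCoh_of_isZero (DerivedCategory.isZero_of_isLE _ 0 i hi))
  obtain ⟨G, b, hGc, hGa, hGb, ⟨eG⟩⟩ := DGen9.exists_coherent_extension W F hFc 0 0
  haveI := hGa
  have hG : DCoh.IsPerfect G := DPerf.isPerfect_iff_approx.2 (DPerf.isPerfect_of_regular
    (fun x => WeilExt.isRegularLocalRing_of_smooth p hreg x) (b + 1).toNat 0 G hGa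
    (fun i hi => DerivedCategory.isZero_of_isLE G b i (by omega)) hGc)
  let G' : DM Q := G
  let K' : DM X := K
  let Z : DM Q := G' ⊗ (dPull p).obj K'
  have hZ : DCoh.IsQCohD (Z : DCoh.D Q) := isQCohD_tensor (DGen9.isQCohD_of_isPerfect hG) (isQCohD_lP p hK)
  let M : DCoh.D P := (DCoh.Rpush q).obj (Z : DCoh.D Q)
  have hM : DCoh.IsQCohD M := DPush.isQCohD_rpush q _ hZ
  have hMc : SGA6.cohbP P M := by
    refine (DbCohPn9.cohbP_iff n k hM).2 fun d _ => ?_
    let L := _root_.Twist.twistProjSpace n k (d : ℤ)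
    have hL := Twist.isInvertible_twistProjSpace n k (d : ℤ)
    haveI : DCoh.HasLTensorMod L := KFlat.Sch.hasLTensorMod _
    obtain ⟨e₁⟩ := PnKoszul9.nonempty_ltensorMod_twD L
    obtain ⟨e₂⟩ := TwistBC9.nonempty_ltensorMod_iso L M
    let Lm : DM P := modM L
    have hLp : DCoh.IsPerfect (Lm : DCoh.D P) :=
      DPerf.isPerfect_iff_approx.2 (DPerf.approx_inD_of_isFinLocFree (M2.isFinLocFree_of_isInvertible hL))
    let qL : DM Q := (dPull q).obj Lm
    have hqL : DCoh.IsQCohD (qL : DCoh.D Q) := isQCohD_lP q (DGen9.isQCohD_of_isPerfect hLp)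
    haveI := isIso_projT q Z hZ (Lm : DCoh.D P) (DGen9.isQCohD_of_isPerfect hLp)
    let A : DM Q := G' ⊗ qL
    have hA : DCoh.IsPerfect (A : DCoh.D Q) :=
      FMAdj9.isPerfect_tensor_perf hG (PerfPush9.isPerfect_lP q hLp)
    haveI := isIso_projT p A (DGen9.isQCohD_of_isPerfect hA) K hK
    obtain ⟨b₁⟩ := BoxRes9.nonempty_braid ((dPull p).obj K') qL
    let s : (Z ⊗ qL : DM Q) ≅ A ⊗ (dPull p).obj K' :=
      α_ _ _ _ ≪≫ whiskerLeftIso G' b₁ ≪≫ (α_ _ _ _).symm
    let pr₁ : (((rM q).obj Z ⊗ Lm : DM P) : DCoh.D P) ≅ (DCoh.Rpush q).obj ((Z ⊗ qL : DM Q) : DCoh.D Q) :=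
      (asIso ((projT q Z).app (Lm : DM P)) :)
    let e₃ : (PnKoszul9.tk (n := n) (A := k) (d : ℤ)).obj M ≅
        (DCoh.Rpush q).obj ((A ⊗ (dPull p).obj K' : DM Q) : DCoh.D Q) :=
      (e₁.app M).symm ≪≫ e₂ ≪≫ (pr₁ :) ≪≫ (DCoh.Rpush q).mapIso (s :)
    let R : DM X := (rM p).obj A
    have hR : DCoh.IsPerfect (R : DCoh.D X) := PerfPush9.isPerfect_rpush_flat p _ hA
    let pr₂ : ((R ⊗ K' : DM X) : DCoh.D X) ≅ (DCoh.Rpush p).obj ((A ⊗ (dPull p).obj K' : DM Q) : DCoh.D Q) :=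
      (asIso ((projT p A).app K') :)
    let e₄ : (DCoh.Rpush π).obj ((PnKoszul9.tk (n := n) (A := k) (d : ℤ)).obj M) ≅
        (DCoh.Rpush f).obj ((R ⊗ K' : DM X) : DCoh.D X) :=
      (DCoh.Rpush π).mapIso e₃ ≪≫ (FMAdj9.rpushComp q π hpq.symm).app _ ≪≫
        ((FMAdj9.rpushComp p f rfl).app _).symm ≪≫ (DCoh.Rpush f).mapIso pr₂.symm
    exact finite_of_isPerfect_rpush (k := k) (X := P)
      (DGen9.isPerfect_of_iso e₄.symm (isPerfect_rpush_ten k hK h R hR))
  have hC : DCoh.IsQCohD ((DPerf.resD U.ι).obj K) := isQCohD_lP U.ι hK |> fun hh i =>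
    M1.isQCoh_of_isIso ((DerivedCategory.homologyFunctor _ i).mapIso ((lPRes U.ι).app K)) (hh i)
  refine cohbP_of_rpush g₀ hC (DbCohPn9.cohbP_iso ?_ (cohbP_resD V.ι hMc))
  let σ : lP V.ι ⋙ lP qW ≅ lP q ⋙ lP W.ι := DBC9.σcan hsq.w
  haveI := FMAdj9.good_flat hsq.flip (Or.inr inferInstance) (adjLP q) (adjLP qW) σ (Z : DCoh.D Q) hZ
  let bc : (lP V.ι).obj M ≅ (DCoh.Rpush qW).obj ((lP W.ι).obj (Z : DCoh.D Q)) :=
    (asIso ((DBC9.bc (adjLP q) (adjLP qW) σ.hom).app (Z : DCoh.D Q)) :)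
  let pW : (W : Scheme.{u}) ⟶ X := W.ι ≫ p
  let F' : DM (W : Scheme.{u}) := F
  let t₁ : ((dPull W.ι).obj Z : DM (W : Scheme.{u})) ≅ F' ⊗ (dPull pW).obj K' :=
    (Functor.Monoidal.μIso (dPull W.ι) G' ((dPull p).obj K')).symm ≪≫
      tensorIso ((lPRes W.ι).app G ≪≫ eG : _) ((lPComp W.ι p rfl).app K : _)
  let O' : DM (U : Scheme.{u}) := O
  haveI := isIso_projT γ O' hO ((dPull pW).obj K') (isQCohD_lP pW hK)
  let pr₃ : ((F' ⊗ (dPull pW).obj K' : DM (W : Scheme.{u})) : DCoh.D (W : Scheme.{u})) ≅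
      (DCoh.Rpush γ).obj ((O' ⊗ (dPull γ).obj ((dPull pW).obj K') : DM _) : DCoh.D _) :=
    (asIso ((projT γ O').app ((dPull pW).obj K')) :)
  let u : O' ≅ 𝟙_ (DM (U : Scheme.{u})) :=
    ((DerivedCategory.singleFunctorIsoCompQ _ 0).app (Coh.structureModule _) : O ≅ (qK _).obj (𝟙_ (KF _)))
  let t₂ : (O' ⊗ (dPull γ).obj ((dPull pW).obj K') : DM _) ≅ (dPull γ).obj ((dPull pW).obj K') :=
    whiskerRightIso u _ ≪≫ λ_ _
  exact ((lPRes V.ι).app M).symm ≪≫ bc ≪≫ (DCoh.Rpush qW).mapIso ((t₁ :) ≪≫ pr₃ ≪≫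
      (DCoh.Rpush γ).mapIso ((t₂ :) ≪≫ ((lPComp γ pW hγp).app K :) ≪≫ (lPRes U.ι).app K)) ≪≫
    (FMAdj9.rpushComp γ qW hγq).app _

/-- Finiteness of maps from perfect objects gives bounded coherence. -/
theorem cohbP_of_hasFin (hreg : Models.IsRegularScheme X) {K : DCoh.D X} (hK : DCoh.IsQCohD K) (h : HasFin k K) :
    SGA6.cohbP X K := by
  haveI : CompactSpace X := QuasiCompact.compactSpace_of_compactSpace ff
  refine cohbP_of_cover hK fun x => ?_
  obtain ⟨U, hU, hxU, -⟩ := exists_isAffineOpen_mem_and_subset (X := X) (x := x) (U := ⊤) trivial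
  exact ⟨U, hxU, cohbP_resD_affine hreg hK h U hU⟩

end Groth.Agent.BvdB9
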