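import Groth.Agent.Lib.DbCohProj9.Main
import Groth.Agent.Lib.SerreP9.Base
import Groth.Agent.Lib.BC8.RelDual
import Groth.Agent.Lib.BC8.TildeTen
import Groth.Agent.Lib.BoxRes9.Kernel
import Groth.Agent.Lib.DGen9.FactorSupp

/-! Objects with finitely many finite-dimensional maps from perfect objects. -/

set_option autoImplicit false
set_option linter.style.haveILetI false
set_option linter.unusedSectionVars false
set_option backward.isDefEq.respectTransparency false
set_option backward.isDefEq.respectTransparency.types false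
set_option maxHeartbeats 1600000

universe u

open CategoryTheory CategoryTheory.Limits AlgebraicGeometry MonoidalCategory
open Groth.Agent.TwistBC9 (oneD)

attribute [local instance] HasDerivedCategory.standard

noncomputable section

namespace Groth.Agent.BvdB9

open DMon9

attribute [local instance] DBC9.hasRpush SerreP9.preDM SerreP9.linDM SerreP9.selfOver

variable (k : Type u) [Field k] {X : Scheme.{u}} [X.Over (Spec (CommRingCat.of k))]

/-- Maps from perfect objects are finite-dimensional and live in finitely many degrees. -/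
def HasFin (K : DCoh.D X) : Prop :=
  ∀ E : DCoh.D X, DCoh.IsPerfect E →
    (∀ i : ℤ, Module.Finite k (E ⟶ K⟦i⟧)) ∧ Set.Finite {i : ℤ | Nontrivial (E ⟶ K⟦i⟧)}

/-- A shift passes out of the right factor. -/
theorem nonempty_ten_shift (F : DM X) (K : DCoh.D X) (i : ℤ) :
    Nonempty ((shiftFunctor (DCoh.D X) i).obj ((F ⊗ (K : DM X) : DM X) : DCoh.D X) ≅
      ((F ⊗ (K⟦i⟧ : DCoh.D X) : DM X) : DCoh.D X)) := by
  obtain ⟨t⟩ := BC8.nonempty_tenL_shift K i
  obtain ⟨b₁⟩ := BoxRes9.nonempty_braid F (K : DM X)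
  let K' : DM X := (K⟦i⟧ : DCoh.D X)
  obtain ⟨b₂⟩ := BoxRes9.nonempty_braid F K'
  exact ⟨(shiftFunctor (DCoh.D X) i).mapIso (b₁ :) ≪≫ (t.app (F : DCoh.D X)).symm ≪≫ (b₂.symm :)⟩

/-- Maps out of the unit into a tensor product with a dualizable object. -/
theorem nonempty_pairing_equiv (F D K : DM X) [ExactPairing F D] :
    Nonempty ((D ⟶ K) ≃ₗ[k] (𝟙_ (DM X) ⟶ F ⊗ K)) := by
  haveI := SerreP9.additive_tensorLeft F
  haveI := SerreP9.linear_tensorLeft k F
  let e : (D ⊗ 𝟙_ (DM X) ⟶ K) ≃ (𝟙_ (DM X) ⟶ F ⊗ K) := tensorLeftHomEquiv _ F D K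
  let L : (D ⊗ 𝟙_ (DM X) ⟶ K) ≃ₗ[k] (𝟙_ (DM X) ⟶ F ⊗ K) :=
    { e with
      map_add' := fun f g => by
        show e (f + g) = e f + e g
        simp only [e, tensorLeftHomEquiv, Equiv.coe_fn_mk]
        rw [show F ◁ (f + g) = F ◁ f + F ◁ g from (tensorLeft F).map_add]
        simp only [Preadditive.comp_add]
      map_smul' := fun c f => by
        show e (c • f) = c • e f
        simp only [e, tensorLeftHomEquiv, Equiv.coe_fn_mk]
        rw [show F ◁ (c • f) = c • F ◁ f from (tensorLeft F).map_smul c f]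
        simp only [Linear.comp_smul] }
  exact ⟨(Linear.homCongr k (ρ_ D).symm (Iso.refl K)).trans L⟩

variable [IsProper (X ↘ Spec (CommRingCat.of k))]

local notation "ff" => (X ↘ Spec (CommRingCat.of k))

/-- Tensoring with a perfect object gives perfect cohomology. -/
theorem isPerfect_rpush_ten {K : DCoh.D X} (hK : DCoh.IsQCohD K) (h : HasFin k K) (F : DM X)
    (hF : DCoh.IsPerfect (F : DCoh.D X)) :
    DCoh.IsPerfect ((DCoh.Rpush ff).obj ((F ⊗ (K : DM X) : DM X) : DCoh.D X)) := by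
  obtain ⟨D, hD, ⟨pr⟩⟩ := BC8.exists_pairing_left_perfect F hF
  haveI := pr
  let D' : DCoh.D X := D
  obtain ⟨hf, hs⟩ := h D' hD
  have hE : ∀ i : ℤ, Nonempty ((D' ⟶ K⟦i⟧) ≃ₗ[k]
      (DCoh.inD X (Coh.structureModule X) ⟶ (shiftFunctor (DCoh.D X) i).obj ((F ⊗ (K : DM X) : DM X) : DCoh.D X))) :=
    fun i => by
      let K' : DM X := (K⟦i⟧ : DCoh.D X)
      obtain ⟨e⟩ := nonempty_pairing_equiv k F D K'
      obtain ⟨s⟩ := nonempty_ten_shift F K i
      let e' : (D' ⟶ K⟦i⟧) ≃ₗ[k] (SerreP9.one X ⟶ ((F ⊗ K' : DM X) : DCoh.D X)) := e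
      exact ⟨e'.trans (Linear.homCongr k (SerreP9.oneIso X).symm s.symm)⟩
  refine DbCohPn9.isPerfect_rpush_of_finite (DMon9.isQCohD_tensor (DGen9.isQCohD_of_isPerfect hF) hK)
    (fun i => ?_) (hs.subset fun i hi => ?_)
  · obtain ⟨e⟩ := hE i
    haveI := hf i
    exact Module.Finite.equiv e
  · obtain ⟨e⟩ := hE i
    exact e.toEquiv.nontrivial_congr.2 hi

/-- A perfect direct image has finite cohomology in finitely many degrees. -/
theorem finite_of_isPerfect_rpush {M : DCoh.D X} (h : DCoh.IsPerfect ((DCoh.Rpush ff).obj M)) :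
    (∀ i : ℤ, Module.Finite k (DCoh.inD X (Coh.structureModule X) ⟶ M⟦i⟧)) ∧
      Set.Finite {i : ℤ | Nontrivial (DCoh.inD X (Coh.structureModule X) ⟶ M⟦i⟧)} := by
  obtain ⟨cs, _⟩ := DPush.exists_commShift_isTriangulated ff
  letI := cs
  let S := Spec (CommRingCat.of k)
  haveI : IsProper (S ↘ Spec (CommRingCat.of k)) := inferInstanceAs (IsProper (𝟙 S))
  haveI : CompactSpace S := inferInstance
  haveI : IsLocallyNoetherian S := inferInstance
  have hc : SGA6.cohbP S ((DCoh.Rpush ff).obj M) := by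
    obtain ⟨b, hb⟩ := DPerf.exists_isLE_of_pseudoCoherent (DGen9.isPseudoCoherentD_of_isPerfect h 0)
    obtain ⟨a, ha⟩ := DPerf.exists_isGE_of_perfect h
    exact ⟨fun i => DPerf.isCoh_HD_of_pseudoCoherent (DGen9.isPseudoCoherentD_of_isPerfect h i)
      (DGen9.isQCohD_of_isPerfect h i) le_rfl, a, b, ha, hb⟩
  obtain ⟨hf, hs⟩ := DbCohProj9.finite_perfect_cohbP (k := k) (X := S) hc
    (E := oneD S 0) (DGen9.isPerfect_inD_structure S)
  refine ⟨fun i => ?_, hs.subset fun i hi => ?_⟩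
  · obtain ⟨e⟩ := DbCohPn9.nonempty_secShift (k := k) M i
    haveI := hf i
    exact Module.Finite.equiv e.symm
  · obtain ⟨e⟩ := DbCohPn9.nonempty_secShift (k := k) M i
    exact e.symm.toEquiv.nontrivial_congr.2 hi

end Groth.Agent.BvdB9
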