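import Groth.Agent.Lib.BvdB9.Rep
import Groth.Agent.Lib.BvdB9.Finite
import Groth.Prelude.Def_Models

/-! Representing finite cohomological functors by bounded coherent objects. -/

set_option autoImplicit false
set_option linter.unusedSectionVars false
set_option linter.style.haveILetI false
set_option backward.isDefEq.respectTransparency false
set_option backward.isDefEq.respectTransparency.types false
set_option maxHeartbeats 1600000

universe u

open CategoryTheory CategoryTheory.Limits AlgebraicGeometry CategoryTheory.Pretriangulated Opposite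

attribute [local instance] HasDerivedCategory.standard

noncomputable section

namespace Groth.Agent.BvdB9

/-- Bounded coherent objects on a regular scheme are perfect. -/
theorem isPerfect_of_cohbP {X : Scheme.{u}} [IsLocallyNoetherian X] (hreg : Models.IsRegularScheme X)
    {K : DCoh.D X} (h : SGA6.cohbP X K) : DCoh.IsPerfect K := by
  obtain ⟨hc, a, b, ha, hb⟩ := h
  exact DPerf.isPerfect_iff_approx.2 (DPerf.isPerfect_of_regular hreg (b + 1 - a).toNat a K ha
    (fun i hi => DerivedCategory.isZero_of_isLE K b i (by omega)) hc)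

variable {k : Type u} [Field k] {X : Scheme.{u}} [X.Over (Spec (CommRingCat.of k))]
  [(SGA6.perfP X).IsTriangulated]

/-- A representing object of a finite functor has finite maps from perfect objects. -/
theorem hasFin_of_rep (H : ((SGA6.perfP X).FullSubcategory)ᵒᵖ ⥤ ModuleCat.{u + 1} k)
    (hfin : ∀ E : (SGA6.perfP X).FullSubcategory,
      (∀ n : ℤ, Module.Finite k (H.obj (op ((shiftFunctor ((SGA6.perfP X).FullSubcategory) n).obj E)))) ∧
      Set.Finite {n : ℤ | Nontrivial (H.obj (op ((shiftFunctor ((SGA6.perfP X).FullSubcategory) n).obj E)))})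
    {N : DCoh.D X} (e : H ≅ (ObjectProperty.ι (SGA6.perfP X)).op ⋙ (linearYoneda k (DCoh.D X)).obj N) :
    HasFin k N := by
  intro E hE
  let E' : (SGA6.perfP X).FullSubcategory := ⟨E, hE⟩
  have hA : ∀ i : ℤ, Nonempty (H.obj (op ((shiftFunctor ((SGA6.perfP X).FullSubcategory) (-i)).obj E')) ≃ₗ[k]
      (E ⟶ N⟦i⟧)) := fun i => by
    let F := shiftFunctor (DCoh.D X) (-i)
    let c : ((ObjectProperty.ι (SGA6.perfP X)).obj ((shiftFunctor ((SGA6.perfP X).FullSubcategory) (-i)).obj E')) ≅
        F.obj E := ((ObjectProperty.ι (SGA6.perfP X)).commShiftIso (-i)).app E'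
    let A₁ : H.obj (op ((shiftFunctor ((SGA6.perfP X).FullSubcategory) (-i)).obj E')) ≃ₗ[k]
        (((ObjectProperty.ι (SGA6.perfP X)).obj ((shiftFunctor ((SGA6.perfP X).FullSubcategory) (-i)).obj E')) ⟶ N) :=
      (e.app _).toLinearEquiv
    let A₂ := Linear.homCongr k c ((shiftEquiv (DCoh.D X) i).unitIso.app N)
    let A₃ : (E ⟶ N⟦i⟧) ≃ₗ[k] (F.obj E ⟶ F.obj (N⟦i⟧)) :=
      LinearEquiv.ofBijective (F.mapLinearMap k) ((Functor.FullyFaithful.ofFullyFaithful F).map_bijective _ _)
    exact ⟨(A₁.trans A₂).trans A₃.symm⟩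
  obtain ⟨hf, hs⟩ := hfin E'
  refine ⟨fun i => ?_, (hs.image fun n => -n).subset fun i hi => ?_⟩
  · obtain ⟨A⟩ := hA i
    haveI := hf (-i)
    exact Module.Finite.equiv A
  · obtain ⟨A⟩ := hA i
    exact ⟨-i, A.toEquiv.nontrivial_congr.2 hi, neg_neg i⟩

/-- Each value of a finite functor is finite-dimensional. -/
theorem finite_value (H : ((SGA6.perfP X).FullSubcategory)ᵒᵖ ⥤ ModuleCat.{u + 1} k)
    (hfin : ∀ E : (SGA6.perfP X).FullSubcategory,
      (∀ n : ℤ, Module.Finite k (H.obj (op ((shiftFunctor ((SGA6.perfP X).FullSubcategory) n).obj E)))) ∧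
      Set.Finite {n : ℤ | Nontrivial (H.obj (op ((shiftFunctor ((SGA6.perfP X).FullSubcategory) n).obj E)))})
    (E : (SGA6.perfP X).FullSubcategory) : Module.Finite k (H.obj (op E)) := by
  haveI := (hfin E).1 0
  exact Module.Finite.equiv (H.mapIso ((shiftFunctorZero ((SGA6.perfP X).FullSubcategory) ℤ).app E).op.symm).toLinearEquiv

end Groth.Agent.BvdB9
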