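import Groth.Agent.Lib.BvdB9.Main
import Groth.Agent.Lib.SerreP9.Main
import Groth.Agent.Lib.BC8.RightAdj
import Groth.Agent.S0342
import Groth.Agent.S6746
import Mathlib.CategoryTheory.Triangulated.HomologicalFunctor
import Mathlib.LinearAlgebra.Dual.Lemmas

/-! Covariant finite homological functors on perfect objects are corepresented. -/

set_option autoImplicit false
set_option linter.unusedSectionVars false
set_option linter.style.haveILetI false
set_option backward.isDefEq.respectTransparency false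
set_option backward.isDefEq.respectTransparency.types false
set_option maxHeartbeats 1600000

universe u

open CategoryTheory CategoryTheory.Limits AlgebraicGeometry CategoryTheory.Pretriangulated Opposite

attribute [local instance] HasDerivedCategory.standard

noncomputable section

namespace Groth.Agent.BvdB9

variable {k : Type u} [Field k] {X : Scheme.{u}} [X.Over (Spec (CommRingCat.of k))]
  [IsProper (X ↘ Spec (CommRingCat.of k))] [(SGA6.perfP X).IsTriangulated]

local notation "ff" => (X ↘ Spec (CommRingCat.of k))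

/-- The Serre functor of a regular proper scheme over a field. -/
theorem nonempty_serre (hreg : Models.IsRegularScheme X) :
    Nonempty (KLin.SerreFunctor k (SGA6.perfP X).FullSubcategory) := by
  haveI := DBC9.hasRpush ff
  haveI : IsLocallyNoetherian X := LocallyOfFiniteType.isLocallyNoetherian ff
  haveI : CompactSpace X := QuasiCompact.compactSpace_of_compactSpace ff
  haveI : QuasiSeparatedSpace X := quasiSeparatedSpace_of_quasiSeparated ff
  have hG : Dual3.IsGorenstein X := ⟨inferInstance, fun x => @S0342.result _ _ (hreg x)⟩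
  let hq : DCoh.RpushPreservesQCoh ff := fun K hK => DPush.isQCohD_rpush ff K hK
  haveI : DCoh.HasShriek ff hq := BC8.isLeftAdjoint_rpushQ ff hq
  let S := Spec (CommRingCat.of k)
  let OY : DCoh.DQCoh S :=
    ⟨DCoh.inD S (Coh.structureModule S), Exact8.isQCohD_single (M1.isQCoh_structureModule S)⟩
  let W := DerivedCategory.Q.objPreimage (DCoh.dualizingCx ff hq OY)
  haveI := KFlat.Sch.hasLTensorCx W
  obtain ⟨σ, -⟩ := SerreP9.nonempty_serreFunctor (OY := OY) (Iso.refl _) hG W (DerivedCategory.Q.objObjPreimageIso _)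
  exact ⟨σ⟩

omit [X.Over (Spec (CommRingCat.of k))] [IsProper (X ↘ Spec (CommRingCat.of k))] in
/-- A triangle of perfect objects, in the category of perfect objects. -/
theorem distinguished_fullSub (T : Triangle (DCoh.D X)) (hT : T ∈ distTriang _) (h₁ : DCoh.IsPerfect T.obj₁)
    (h₂ : DCoh.IsPerfect T.obj₂) (h₃ : DCoh.IsPerfect T.obj₃) :
    Triangle.mk (ObjectProperty.homMk T.mor₁ : (⟨T.obj₁, h₁⟩ : (SGA6.perfP X).FullSubcategory) ⟶ ⟨T.obj₂, h₂⟩)
      (ObjectProperty.homMk T.mor₂ : (⟨T.obj₂, h₂⟩ : (SGA6.perfP X).FullSubcategory) ⟶ ⟨T.obj₃, h₃⟩)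
      (ObjectProperty.homMk (T.mor₃ ≫ ((ObjectProperty.ι (SGA6.perfP X)).commShiftIso (1 : ℤ)).inv.app ⟨T.obj₁, h₁⟩) :
        (⟨T.obj₃, h₃⟩ : (SGA6.perfP X).FullSubcategory) ⟶ (⟨T.obj₁, h₁⟩ : (SGA6.perfP X).FullSubcategory)⟦(1 : ℤ)⟧)
      ∈ distTriang _ := by
  let A₁ : (SGA6.perfP X).FullSubcategory := ⟨T.obj₁, h₁⟩
  let ι := ObjectProperty.ι (SGA6.perfP X)
  show ι.mapTriangle.obj _ ∈ distTriang _
  refine isomorphic_distinguished _ hT _ (Triangle.isoMk _ _ (Iso.refl _) (Iso.refl _) (Iso.refl _) ?_ ?_ ?_)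
  · exact (Category.comp_id _).trans (Category.id_comp _).symm
  · exact (Category.comp_id _).trans (Category.id_comp _).symm
  · show ((T.mor₃ ≫ (ι.commShiftIso (1 : ℤ)).inv.app A₁) ≫ (ι.commShiftIso (1 : ℤ)).hom.app A₁) ≫ (𝟙 _)⟦(1 : ℤ)⟧' = 𝟙 _ ≫ T.mor₃
    rw [Category.assoc, Category.assoc, Iso.inv_hom_id_app_assoc, Category.id_comp, CategoryTheory.Functor.map_id]
    exact Category.comp_id _

variable (G : (SGA6.perfP X).FullSubcategory ⥤ ModuleCat.{u + 1} k) [G.Additive] [G.Linear k]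

/-- The dual of a covariant functor. -/
def dualFun : ((SGA6.perfP X).FullSubcategory)ᵒᵖ ⥤ ModuleCat.{u + 1} k where
  obj A := ModuleCat.of k (Module.Dual k (G.obj A.unop))
  map f := ModuleCat.ofHom (G.map f.unop).hom.dualMap
  map_id A := ModuleCat.hom_ext (LinearMap.ext fun φ => LinearMap.ext fun z => by
    show φ (G.map (𝟙 A.unop) z) = φ z
    rw [G.map_id]; rfl)
  map_comp f g := ModuleCat.hom_ext (LinearMap.ext fun φ => LinearMap.ext fun z => by
    show φ (G.map (g.unop ≫ f.unop) z) = φ (G.map f.unop (G.map g.unop z))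
    rw [G.map_comp]; rfl)

instance : (dualFun G).Additive where
  map_add {A B f g} := ModuleCat.hom_ext (LinearMap.ext fun (φ : Module.Dual k (G.obj A.unop)) => LinearMap.ext fun z => by
    show φ (G.map (f.unop + g.unop) z) = φ (G.map f.unop z) + φ (G.map g.unop z)
    rw [G.map_add, ← map_add]; rfl)

theorem dualFun_smul (A B : (SGA6.perfP X).FullSubcategory) (r : k) (f : A ⟶ B) :
    (dualFun G).map (r • f).op = r • (dualFun G).map f.op :=
  ModuleCat.hom_ext (LinearMap.ext fun (φ : Module.Dual k (G.obj B)) => LinearMap.ext fun z => by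
    show φ (G.map (r • f) z) = r • φ (G.map f z)
    rw [G.map_smul, ← map_smul]; rfl)

theorem dualFun_exact [G.IsHomological] (T : Triangle (DCoh.D X)) (hT : T ∈ distTriang _) (h₁ : DCoh.IsPerfect T.obj₁)
    (h₂ : DCoh.IsPerfect T.obj₂) (h₃ : DCoh.IsPerfect T.obj₃) (y : (dualFun G).obj (op ⟨T.obj₂, h₂⟩))
    (hy : (dualFun G).map (ObjectProperty.homMk T.mor₁ : (⟨T.obj₁, h₁⟩ : (SGA6.perfP X).FullSubcategory) ⟶ ⟨T.obj₂, h₂⟩).op y = 0) :
    ∃ z : (dualFun G).obj (op ⟨T.obj₃, h₃⟩),
      (dualFun G).map (ObjectProperty.homMk T.mor₂ : (⟨T.obj₂, h₂⟩ : (SGA6.perfP X).FullSubcategory) ⟶ ⟨T.obj₃, h₃⟩).op z = y := by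
  let A₁ : (SGA6.perfP X).FullSubcategory := ⟨T.obj₁, h₁⟩
  let A₂ : (SGA6.perfP X).FullSubcategory := ⟨T.obj₂, h₂⟩
  let A₃ : (SGA6.perfP X).FullSubcategory := ⟨T.obj₃, h₃⟩
  let a : A₁ ⟶ A₂ := ObjectProperty.homMk T.mor₁
  let b : A₂ ⟶ A₃ := ObjectProperty.homMk T.mor₂
  let ι := ObjectProperty.ι (SGA6.perfP X)
  let c : A₃ ⟶ A₁⟦(1 : ℤ)⟧ := ObjectProperty.homMk (T.mor₃ ≫ (ι.commShiftIso (1 : ℤ)).inv.app A₁)
  let T' : Triangle (SGA6.perfP X).FullSubcategory := Triangle.mk a b c
  have hT' : T' ∈ distTriang _ := distinguished_fullSub T hT h₁ h₂ h₃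
  have hex := (ShortComplex.moduleCat_exact_iff _).1 (G.map_distinguished_exact T' hT')
  let u := (G.map a).hom
  let v := (G.map b).hom
  let y' : Module.Dual k (G.obj A₂) := y
  have hy' : ∀ z, y' (u z) = 0 := fun z => congrArg (fun φ : Module.Dual k (G.obj A₁) => φ z) hy
  have hmem : y' ∈ LinearMap.range v.dualMap := by
    rw [LinearMap.range_dualMap_eq_dualAnnihilator_ker, Submodule.mem_dualAnnihilator]
    intro w hw
    obtain ⟨z, hz⟩ := hex w hw
    rw [← hz]
    exact hy' z
  obtain ⟨z, hz⟩ := hmem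
  exact ⟨z, hz⟩

/-- Covariant finite homological functors on perfect objects are corepresented. -/
theorem exists_corep_perfect [G.IsHomological] (hreg : Models.IsRegularScheme X)
    (hfin : ∀ E : (SGA6.perfP X).FullSubcategory,
      (∀ n : ℤ, Module.Finite k (G.obj ((shiftFunctor ((SGA6.perfP X).FullSubcategory) n).obj E))) ∧
      Set.Finite {n : ℤ | Nontrivial (G.obj ((shiftFunctor ((SGA6.perfP X).FullSubcategory) n).obj E))}) :
    ∃ K : (SGA6.perfP X).FullSubcategory,
      Nonempty (G ≅ (linearCoyoneda k ((SGA6.perfP X).FullSubcategory)).obj (op K)) := by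
  obtain ⟨σ⟩ := nonempty_serre (k := k) hreg
  have hG0 : ∀ E : (SGA6.perfP X).FullSubcategory, Module.Finite k (G.obj E) := fun E => by
    haveI := (hfin E).1 0
    exact Module.Finite.equiv (G.mapIso ((shiftFunctorZero ((SGA6.perfP X).FullSubcategory) ℤ).app E)).toLinearEquiv
  obtain ⟨N, hN, ⟨e⟩⟩ := S6746.result k X hreg (dualFun G) (dualFun_smul G) (dualFun_exact G) fun E =>
    ⟨fun n => by
      haveI := (hfin E).1 n
      show Module.Finite k (Module.Dual k (G.obj ((shiftFunctor ((SGA6.perfP X).FullSubcategory) n).obj E)))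
      infer_instance,
      (hfin E).2.subset fun n hn => by
        show Nontrivial _
        by_contra h
        haveI := not_nontrivial_iff_subsingleton.1 h
        haveI : Nontrivial (Module.Dual k (G.obj ((shiftFunctor ((SGA6.perfP X).FullSubcategory) n).obj E))) := hn
        exact not_subsingleton (Module.Dual k (G.obj ((shiftFunctor ((SGA6.perfP X).FullSubcategory) n).obj E)))
          ⟨fun p q => LinearMap.ext fun z => by rw [Subsingleton.elim z 0, map_zero, map_zero]⟩⟩
  let N' : (SGA6.perfP X).FullSubcategory := ⟨N, hN⟩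
  let ι := ObjectProperty.ι (SGA6.perfP X)
  let K := σ.S.inverse.obj N'
  let c : σ.S.functor.obj K ≅ N' := σ.S.counitIso.app N'
  let toN : ∀ E : (SGA6.perfP X).FullSubcategory, Module.Dual k (G.obj E) ≃ₗ[k] (E ⟶ σ.S.functor.obj K) := fun E =>
    let e₁ : Module.Dual k (G.obj E) ≃ₗ[k] (ι.obj E ⟶ ι.obj N') := (e.app (op E)).toLinearEquiv
    let e₂ : (E ⟶ N') ≃ₗ[k] (ι.obj E ⟶ ι.obj N') :=
      LinearEquiv.ofBijective (ι.mapLinearMap k) ((ObjectProperty.fullyFaithfulι _).map_bijective E N')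
    (e₁.trans e₂.symm).trans (Linear.homCongr k (Iso.refl E) c.symm)
  have toN_nat : ∀ {E E' : (SGA6.perfP X).FullSubcategory} (g : E ⟶ E') (φ : Module.Dual k (G.obj E')),
      toN E ((G.map g).hom.dualMap φ) = g ≫ toN E' φ := by
    intro E E' g φ
    have h : (e.hom.app (op E)) ((G.map g).hom.dualMap φ) = g.hom ≫ (e.hom.app (op E')) φ :=
      congrArg (fun t : (dualFun G).obj (op E') ⟶ _ => t φ) (e.hom.naturality g.op)
    simp only [toN, LinearEquiv.trans_apply, Linear.homCongr_apply, Iso.refl_inv, Category.id_comp]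
    rw [← Category.assoc]
    refine congrArg (fun t => t ≫ c.symm.hom) ((ObjectProperty.fullyFaithfulι _).map_injective ?_)
    refine Eq.trans ?_ (Functor.map_comp _ _ _).symm
    simp only [LinearEquiv.ofBijective, ]
    refine Eq.trans (LinearEquiv.apply_symm_apply (LinearEquiv.ofBijective (ι.mapLinearMap k)
      ((ObjectProperty.fullyFaithfulι _).map_bijective E N')) _) (Eq.trans h (congrArg (g.hom ≫ ·) ?_))
    exact (LinearEquiv.apply_symm_apply (LinearEquiv.ofBijective (ι.mapLinearMap k)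
      ((ObjectProperty.fullyFaithfulι _).map_bijective E' N')) _).symm
  haveI := hG0
  let Φ : ∀ E : (SGA6.perfP X).FullSubcategory, (K ⟶ E) ≃ₗ[k] G.obj E := fun E =>
    ((σ.homIso K E).trans (toN E).dualMap).trans (Module.evalEquiv k (G.obj E)).symm
  have hΦ : ∀ E (f : K ⟶ E) (φ : Module.Dual k (G.obj E)), φ (Φ E f) = σ.homIso K E f (toN E φ) := fun E f φ =>
    Module.apply_evalEquiv_symm_apply k (G.obj E) φ _
  refine ⟨K, ⟨(NatIso.ofComponents (fun E => (Φ E).toModuleIso) fun {E E'} g => ?_).symm⟩⟩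
  refine ModuleCat.hom_ext (LinearMap.ext fun f => ?_)
  show Φ E' (f ≫ g) = G.map g (Φ E f)
  refine (Module.evalEquiv k (G.obj E')).injective (LinearMap.ext fun φ => ?_)
  show φ (Φ E' (f ≫ g)) = φ (G.map g (Φ E f))
  rw [hΦ, σ.homIso_comp f g, ← toN_nat g φ, ← hΦ]
  rfl

end Groth.Agent.BvdB9
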