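import Groth.Agent.Lib.BvdB9.Repr
import Groth.Agent.Lib.BC8.RightAdj
import Groth.Agent.Lib.DGen9.CompactPerf
import Groth.Agent.Lib.DbCohPn9.FinField
import Groth.Prelude.Def_SGA6
import Groth.Prelude.Def_KLin

/-! Representing finite-dimensional cohomological functors on perfect objects. -/

set_option autoImplicit false
set_option linter.unusedSectionVars false
set_option linter.style.haveILetI false
set_option backward.isDefEq.respectTransparency false
set_option backward.isDefEq.respectTransparency.types false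
set_option maxHeartbeats 1600000

universe u

open CategoryTheory CategoryTheory.Limits AlgebraicGeometry CategoryTheory.Pretriangulated Opposite
open Groth.Agent.DPush

attribute [local instance] HasDerivedCategory.standard

noncomputable section

namespace Groth.Agent.BvdB9

variable {k : Type u} [Field k] {X : Scheme.{u}} [X.Over (Spec (CommRingCat.of k))]
  (H : ((SGA6.perfP X).FullSubcategory)ᵒᵖ ⥤ ModuleCat.{u + 1} k) [H.Additive]
  (hcoh : ∀ T ∈ distTriang (DCoh.D X), ∀ (h₁ : DCoh.IsPerfect T.obj₁)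
      (h₂ : DCoh.IsPerfect T.obj₂) (h₃ : DCoh.IsPerfect T.obj₃)
      (y : H.obj (op ⟨T.obj₂, h₂⟩)),
      H.map (ObjectProperty.homMk T.mor₁ : (⟨T.obj₁, h₁⟩ : (SGA6.perfP X).FullSubcategory) ⟶ ⟨T.obj₂, h₂⟩).op y = 0 →
        ∃ z : H.obj (op ⟨T.obj₃, h₃⟩),
          H.map (ObjectProperty.homMk T.mor₂ : (⟨T.obj₂, h₂⟩ : (SGA6.perfP X).FullSubcategory) ⟶ ⟨T.obj₃, h₃⟩).op z = y)
  (hfin : ∀ E : (SGA6.perfP X).FullSubcategory, Module.Finite k (H.obj (op E)))

/-- The action of a map of perfect objects. -/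
def act {A B : (SGA6.perfP X).FullSubcategory} (f : A.obj ⟶ B.obj) : H.obj (op B) →ₗ[k] H.obj (op A) :=
  (H.map (ObjectProperty.homMk f : A ⟶ B).op).hom

theorem act_id (A : (SGA6.perfP X).FullSubcategory) (z : H.obj (op A)) : act H (A := A) (B := A) (𝟙 A.obj) z = z := by
  show H.map (𝟙 (op A)) z = z
  rw [H.map_id]; rfl

theorem act_comp {A B C : (SGA6.perfP X).FullSubcategory} (f : A.obj ⟶ B.obj) (g : B.obj ⟶ C.obj)
    (z : H.obj (op C)) : act H (f ≫ g) z = act H f (act H g z) := by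
  show H.map (ObjectProperty.homMk (f ≫ g) : A ⟶ C).op z = _
  rw [show (ObjectProperty.homMk (f ≫ g) : A ⟶ C) = ObjectProperty.homMk f ≫ (ObjectProperty.homMk g : B ⟶ C) from rfl,
    op_comp, H.map_comp]
  rfl

theorem act_add {A B : (SGA6.perfP X).FullSubcategory} (f g : A.obj ⟶ B.obj) (z : H.obj (op B)) :
    act H (f + g) z = act H f z + act H g z := by
  show H.map (ObjectProperty.homMk (f + g) : A ⟶ B).op z = _
  rw [show (ObjectProperty.homMk (f + g) : A ⟶ B) = ObjectProperty.homMk f + ObjectProperty.homMk g from rfl,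
    op_add, H.map_add]
  rfl

include hcoh hfin in
/-- The system of all perfect objects. -/
def perfSys : CoRep9.Sys k (DCoh.D X) where
  J := (SGA6.perfP X).FullSubcategory
  S a := a.obj
  h a := H.obj (op a)
  m f := act H f
  m_id a z := act_id H a z
  m_comp f g z := act_comp H f g z
  m_add f g z := act_add H f g z
  exact := fun {a b} g y hy => by
    obtain ⟨C, d, dd, hT⟩ := distinguished_cocone_triangle₁ g
    have hC : DCoh.IsPerfect C := DGen9.isPerfect_obj₁ _ hT a.property b.property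
    exact hcoh _ hT hC a.property b.property y (hy ⟨C, hC⟩ d (comp_distTriang_mor_zero₁₂ _ hT))
  biprod := fun a b => ⟨⟨a.obj ⊞ b.obj, DbCohPn9.isPerfect_biprod' a.property b.property⟩,
    biprod.inl, biprod.inr, biprod.fst, biprod.snd, by simp, by simp, by simp, by simp⟩
  fin := hfin

variable [CompactSpace X] [QuasiSeparatedSpace X]

theorem bijective_homSum_perfect (a : (SGA6.perfP X).FullSubcategory) {κ : Type u} (Y : κ → DCoh.D X)
    [HasCoproduct Y] (hY : ∀ i, DCoh.IsQCohD (Y i)) : Function.Bijective (PerfAux.homSumToHomCoprod a.obj Y) :=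
  (DGen9.bijective_homSum_iff a.obj Y).2 (DGen9.qFin_of_isPerfect a.property κ Y hY)

theorem finFac_nat_perfect {E : DCoh.D X} (hE : DCoh.IsPerfect E) (L : ℕ → DCoh.D X) [HasCoproduct L]
    [HasCoproduct fun i : ULift.{u} ℕ => L i.down] (hL : ∀ i, DCoh.IsQCohD (L i)) (φ : E ⟶ ∐ L) : FinFac L φ := by
  let w : (∐ fun i : ULift.{u} ℕ => L i.down) ⟶ ∐ L :=
    Sigma.desc fun i => (Iso.refl (L i.down)).hom ≫ Sigma.ι L i.down
  let w' : ∐ L ⟶ ∐ fun i : ULift.{u} ℕ => L i.down :=
    Sigma.desc fun m => Sigma.ι (fun i : ULift.{u} ℕ => L i.down) ⟨m⟩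
  have hww : w' ≫ w = 𝟙 _ := Sigma.hom_ext _ _ fun m => by simp [w, w']
  have := RHom.finFac_whisker L (fun i : ULift.{u} ℕ => L i.down) Equiv.ulift (fun i => Iso.refl _) _
    (DGen9.qFin_of_isPerfect hE _ _ (fun i : ULift.{u} ℕ => hL i.down) (φ ≫ w'))
  rw [show φ = (φ ≫ w') ≫ w by rw [Category.assoc, hww, Category.comp_id]]
  exact this

include hcoh hfin in
/-- Finite-dimensional cohomological functors on perfect objects are represented in `D_QCoh`. -/
theorem exists_rep_perfect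
    (hlin : ∀ (A B : (SGA6.perfP X).FullSubcategory) (r : k) (f : A ⟶ B), H.map (r • f).op = r • H.map f.op) :
    ∃ N : DCoh.D X, DCoh.IsQCohD N ∧
      Nonempty (H ≅ (ObjectProperty.ι (SGA6.perfP X)).op ⋙ (linearYoneda k (DCoh.D X)).obj N) := by
  haveI : LocallySmall.{u} (DCoh.D X) := RHom.locallySmall_derivedCategory X.Modules
  haveI : ∀ κ : Type u, HasColimitsOfShape (Discrete κ) (DCoh.D X) := DGen9.hasCoproducts_D X
  haveI : HasColimitsOfShape (Discrete ℕ) (DCoh.D X) :=
    hasColimitsOfShape_of_equivalence (Discrete.equivalence (Equiv.ulift.{u} : ULift.{u} ℕ ≃ ℕ))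
  obtain ⟨P, hP, hPq, -, hgen⟩ := DGen9.exists_generator_qcqs X Set.univ isClosed_univ
    (by rw [Set.compl_univ]; exact isCompact_empty)
  let σ := perfSys H hcoh hfin
  have hinj : ∀ (a : σ.J) (θ θ' : σ.Nat' (σ.S a)), θ.1 a (𝟙 _) = θ'.1 a (𝟙 _) → θ = θ' :=
    fun a θ θ' h => CoRep9.Sys.Nat'.ext' σ fun b t => by
      rw [← Category.comp_id t, θ.2 b a t, θ'.2 b a t, h]
  have hsmall : ∀ n : ℤ, Small.{u} (σ.Nat' (P⟦n⟧)) := fun n => by
    let a : σ.J := (⟨P⟦n⟧, DGen9.isPerfect_shiftD hP n⟩ : (SGA6.perfP X).FullSubcategory)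
    haveI : Module.Finite k (σ.h a) := hfin a
    obtain ⟨d, g, hg⟩ := Module.Finite.exists_fin' k (σ.h a)
    haveI : Small.{u} (σ.h a) := small_of_surjective hg
    exact small_of_injective (f := fun θ : σ.Nat' (P⟦n⟧) => θ.1 a (𝟙 _)) fun θ θ' h => hinj a θ θ' h
  obtain ⟨N, η, hN, hη⟩ := exists_rep σ P (S := fun L : DCoh.D X => DCoh.IsQCohD L)
    ⟨DQC.isQCohD_of_iso, fun κ L hL => DPerf.isQCohD_sigma L hL, fun T hT => DPush.isQCohD_obj₃ T hT⟩
    (fun n => DMV.isQCohD_shift P hPq n) (fun A hA n => DMV.isQCohD_shift A hA n)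
    (fun n L hL φ => finFac_nat_perfect (DGen9.isPerfect_shiftD hP n) L hL φ)
    (fun Q hQ h => (hgen Q hQ (DGen9.suppOn_univ Q)).2 h)
    (fun κ Y hY a => bijective_homSum_perfect a Y hY)
    (fun Y hY a => (DGen9.bijective_homSum_iff _ Y).2 (finFac_nat_perfect a.property Y hY))
    hsmall
  have hsmul : ∀ (a : σ.J) (r : k) (f : σ.S a ⟶ N), η.1 a (r • f) = r • η.1 a f := fun a r f => by
    rw [show r • f = (r • 𝟙 (σ.S a)) ≫ f by simp, η.2 a a]
    let a' : (SGA6.perfP X).FullSubcategory := a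
    show H.map (r • 𝟙 a').op _ = _
    rw [hlin]
    exact congrArg (r • ·) (act_id H a' _)
  let θ : ∀ a : σ.J, (σ.S a ⟶ N) →ₗ[k] σ.h a := fun a => ⟨⟨η.1 a, map_add _⟩, hsmul a⟩
  have θbij : ∀ a, Function.Bijective (θ a) := fun a => by
    have hb := hη (σ.S a) (DGen9.isQCohD_of_isPerfect a.property)
    constructor
    · intro f f' h
      refine hb.1 (hinj a _ _ ?_)
      show η.1 a (𝟙 _ ≫ f) = η.1 a (𝟙 _ ≫ f')
      rw [Category.id_comp, Category.id_comp]
      exact h
    · intro z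
      obtain ⟨f, hf⟩ := hb.2 ⟨fun b => AddMonoidHom.mk' (fun t => σ.m t z) fun t t' => σ.m_add t t' z,
        fun b c g t => σ.m_comp g t z⟩
      refine ⟨f, ?_⟩
      have := congrArg (fun x : σ.Nat' (σ.S a) => x.1 a (𝟙 _)) hf
      exact ((congrArg (η.1 a) (Category.id_comp f)).symm.trans this).trans (σ.m_id a z)
  refine ⟨N, hN, ⟨(NatIso.ofComponents (fun A => (LinearEquiv.ofBijective (θ A.unop) (θbij A.unop)).toModuleIso)
    fun {A B} g => ?_).symm⟩⟩
  refine ModuleCat.hom_ext (LinearMap.ext fun f => ?_)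
  exact η.2 B.unop A.unop g.unop.hom f

end Groth.Agent.BvdB9
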