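import Groth.Agent.Lib.CoRep9.Functor
import Groth.Prelude.Def_PerfAux
import Groth.Agent.Lib.DGen9.Coloc

/-! Representing a cohomological system of finite-dimensional spaces inside a class with a compact generator. -/

set_option autoImplicit false
set_option linter.unusedSectionVars false
set_option linter.style.haveILetI false
set_option backward.isDefEq.respectTransparency false
set_option backward.isDefEq.respectTransparency.types false
set_option maxHeartbeats 1600000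

universe w w' v u

open CategoryTheory CategoryTheory.Limits CategoryTheory.Pretriangulated Groth.Agent.DPush

namespace Groth.Agent.BvdB9

variable {k : Type w'} [Field k] {D : Type u} [Category.{v} D] [Preadditive D] [HasZeroObject D] [HasShift D ℤ]
  [∀ n : ℤ, (shiftFunctor D n).Additive] [Pretriangulated D] [LocallySmall.{w} D]
  [∀ κ : Type w, HasColimitsOfShape (Discrete κ) D] [HasColimitsOfShape (Discrete ℕ) D]
  (σ : CoRep9.Sys k D)

theorem pull_comp {X Y Z : D} (f : X ⟶ Y) (g : Y ⟶ Z) (η : σ.Nat' Z) :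
    σ.pull (f ≫ g) η = σ.pull f (σ.pull g η) :=
  CoRep9.Sys.Nat'.ext' σ fun a t => congrArg (η.1 a) (Category.assoc t f g).symm

theorem pull_id {X : D} (η : σ.Nat' X) : σ.pull (𝟙 X) η = η :=
  CoRep9.Sys.Nat'.ext' σ fun a t => congrArg (η.1 a) (Category.comp_id t)

theorem pull_add {X Y : D} (f g : X ⟶ Y) (η : σ.Nat' Y) : σ.pull (f + g) η = σ.pull f η + σ.pull g η :=
  CoRep9.Sys.Nat'.ext' σ fun a t => by
    show η.1 a (t ≫ (f + g)) = η.1 a (t ≫ f) + η.1 a (t ≫ g)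
    rw [Preadditive.comp_add, map_add]

theorem pull_zero {X Y : D} (η : σ.Nat' Y) : σ.pull (0 : X ⟶ Y) η = 0 := by
  have := pull_add σ (0 : X ⟶ Y) 0 η
  rwa [add_zero, left_eq_add] at this

theorem pull_sub {X Y : D} (f g : X ⟶ Y) (η : σ.Nat' Y) : σ.pull (f - g) η = σ.pull f η - σ.pull g η :=
  eq_sub_iff_add_eq.2 (by rw [← pull_add, sub_add_cancel])

/-- Exactness of natural transformations into the system. -/
theorem exists_pull (T : Triangle D) (hT : T ∈ distTriang D) (η : σ.Nat' T.obj₂) (hη : σ.pull T.mor₁ η = 0) :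
    ∃ θ : σ.Nat' T.obj₃, σ.pull T.mor₂ θ = η := by
  let Γ : ∀ a, AddSubgroup ((σ.S a ⟶ T.obj₃) × σ.h a) := fun a =>
    ((Preadditive.rightComp (σ.S a) T.mor₂).prod (η.1 a)).range
  have hΓ : σ.Partial T.obj₃ Γ := ⟨fun {a b} g p hp => by
      obtain ⟨t, rfl⟩ := hp
      exact ⟨g ≫ t, Prod.ext (Category.assoc _ _ _) (η.2 a b g t)⟩, fun a y hy => by
      obtain ⟨t, ht⟩ := hy
      obtain ⟨s, rfl⟩ : ∃ s : σ.S a ⟶ T.obj₁, t = s ≫ T.mor₁ :=
        Triangle.coyoneda_exact₂ _ hT t (congrArg Prod.fst ht)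
      exact (congrArg Prod.snd ht).symm.trans (congrArg (fun x : σ.Nat' T.obj₁ => x.1 a s) hη)⟩
  obtain ⟨θ, hθ, hθ'⟩ := CoRep9.Sys.exists_extension hΓ
  exact ⟨⟨θ, fun a b g f => hθ g f⟩, CoRep9.Sys.Nat'.ext' σ fun a t => hθ' a _ _ ⟨t, rfl⟩⟩

section Sum

variable {κ : Type*} (Y : κ → D) [HasCoproduct Y]
  (hc : ∀ a, Function.Bijective (PerfAux.homSumToHomCoprod (σ.S a) Y))

include hc in
theorem exists_fin_sum (a : σ.J) (f : σ.S a ⟶ ∐ Y) :
    ∃ (s : Finset κ) (u : ∀ i, σ.S a ⟶ Y i), f = ∑ i ∈ s, u i ≫ Sigma.ι Y i := by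
  classical
  obtain ⟨g, rfl⟩ := (hc a).2 f
  refine ⟨DFinsupp.support g, fun i => g i, ?_⟩
  conv_lhs => rw [← DFinsupp.sum_single (f := g)]
  rw [DFinsupp.sum, map_sum]
  exact Finset.sum_congr rfl fun i _ =>
    DirectSum.toAddMonoid_of (fun j => Preadditive.rightComp (σ.S a) (Sigma.ι Y j)) i (g i)

include hc in
theorem exists_glue' (η : ∀ i, σ.Nat' (Y i)) :
    ∃ θ : σ.Nat' (∐ Y), ∀ i, σ.pull (Sigma.ι Y i) θ = η i := by
  classical
  let e := fun a => AddEquiv.ofBijective (PerfAux.homSumToHomCoprod (σ.S a) Y) (hc a)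
  let φ : ∀ a, (σ.S a ⟶ ∐ Y) →+ σ.h a := fun a =>
    (DirectSum.toAddMonoid fun i => (η i).1 a).comp (e a).symm.toAddMonoidHom
  have hφ : ∀ a i (u : σ.S a ⟶ Y i), φ a (u ≫ Sigma.ι Y i) = (η i).1 a u := by
    intro a i u
    have : (e a).symm (u ≫ Sigma.ι Y i) = DirectSum.of (fun i => σ.S a ⟶ Y i) i u :=
      (AddEquiv.symm_apply_eq _).2
        (DirectSum.toAddMonoid_of (fun j => Preadditive.rightComp (σ.S a) (Sigma.ι Y j)) i u).symm
    show DirectSum.toAddMonoid _ ((e a).symm _) = _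
    rw [this, DirectSum.toAddMonoid_of]
  refine ⟨⟨φ, fun a b g f => ?_⟩, fun i => CoRep9.Sys.Nat'.ext' σ fun a u => hφ a i u⟩
  obtain ⟨s, u, rfl⟩ := exists_fin_sum σ Y hc b f
  simp only [Preadditive.comp_sum, map_sum]
  refine Finset.sum_congr rfl fun i _ => ?_
  rw [← Category.assoc, hφ, hφ, (η i).2 a b g]

include hc in
theorem glue_ext' (θ θ' : σ.Nat' (∐ Y)) (h : ∀ i, σ.pull (Sigma.ι Y i) θ = σ.pull (Sigma.ι Y i) θ') : θ = θ' :=
  CoRep9.Sys.Nat'.ext' σ fun a f => by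
    obtain ⟨s, u, rfl⟩ := exists_fin_sum σ Y hc a f
    simp only [map_sum]
    exact Finset.sum_congr rfl fun i _ => congrArg (fun t : σ.Nat' (Y i) => t.1 a (u i)) (h i)

end Sum

variable (P : D) {S : D → Prop} (hS : DGen9.CoclosedClass.{w} S) (hP : ∀ n : ℤ, S (P⟦n⟧))
  (hSh : ∀ (A : D), S A → ∀ n : ℤ, S (A⟦n⟧))
  (hfin : ∀ (n : ℤ) (X : ℕ → D), (∀ k, S (X k)) → ∀ f : P⟦n⟧ ⟶ ∐ X, FinFac X f)
  (hgen : ∀ Q, S Q → (∀ (n : ℤ) (φ : P⟦n⟧ ⟶ Q), φ = 0) → IsZero Q)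
  (hc : ∀ (κ : Type w) (Y : κ → D), (∀ i, S (Y i)) → ∀ a, Function.Bijective (PerfAux.homSumToHomCoprod (σ.S a) Y))
  (hcN : ∀ (Y : ℕ → D), (∀ i, S (Y i)) → ∀ a, Function.Bijective (PerfAux.homSumToHomCoprod (σ.S a) Y))
  (hsmall : ∀ n : ℤ, Small.{w} (σ.Nat' (P⟦n⟧)))

include hS hP hfin hc hcN hsmall in
theorem exists_tower_nat : ∃ (N : D) (η : σ.Nat' N), S N ∧
    ∀ n : ℤ, Function.Bijective fun f : P⟦n⟧ ⟶ N => σ.pull f η := by
  classical
  let St := Σ' (X : D) (_ : σ.Nat' X), S X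
  have hstep : ∀ s : St, ∃ (s' : St) (t : s.1 ⟶ s'.1), σ.pull t s'.2.1 = s.2.1 ∧
      ∀ (n : ℤ) (c : P⟦n⟧ ⟶ s.1), σ.pull c s.2.1 = 0 → c ≫ t = 0 := by
    rintro ⟨X, x, hX⟩
    let K := Σ n : ℤ, Shrink.{w} {c : P⟦n⟧ ⟶ X // σ.pull c x = 0}
    let g : (∐ fun k : K => P⟦k.1⟧) ⟶ X := Sigma.desc fun k => ((equivShrink _).symm k.2).1
    have hι : ∀ k : K, Sigma.ι (fun k : K => P⟦k.1⟧) k ≫ g = ((equivShrink _).symm k.2).1 :=
      fun k => Sigma.ι_desc _ k
    clear_value g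
    obtain ⟨Y, t, r, hT⟩ := distinguished_cocone_triangle g
    let Y₀ : K → D := fun k => P⟦k.1⟧
    have hY₀ := hc K Y₀ fun k => hP k.1
    have hg : σ.pull g x = 0 := by
      refine glue_ext' σ Y₀ hY₀ (σ.pull g x) 0 fun k => ?_
      have hk : σ.pull (((equivShrink _).symm k.2).1) x = 0 := ((equivShrink _).symm k.2).2
      refine ((pull_comp σ (Sigma.ι Y₀ k) g x).symm.trans ?_).trans (AddMonoidHom.map_zero _).symm
      exact (congrArg (fun φ => σ.pull φ x) (hι k)).trans hk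
    have hex : ∃ y : σ.Nat' Y, σ.pull t y = x := exists_pull σ _ hT x hg
    obtain ⟨y, hy⟩ := hex
    refine ⟨⟨Y, y, hS.cone _ hT (hS.sigma K _ fun k => hP _) hX⟩, t, hy, fun n c hc0 => ?_⟩
    have hcg : Sigma.ι (fun k : K => P⟦k.1⟧) ⟨n, equivShrink _ ⟨c, hc0⟩⟩ ≫ g = c := by
      rw [hι]
      simp
    rw [← hcg, Category.assoc, show g ≫ t = 0 from comp_distTriang_mor_zero₁₂ _ hT, comp_zero]
  choose step t ht hkill using hstep
  haveI := hsmall
  let J := Σ n : ℤ, Shrink.{w} (σ.Nat' (P⟦n⟧))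
  obtain ⟨x₀, hx₀⟩ := exists_glue' σ (fun j : J => P⟦j.1⟧) (hc J _ fun j => hP _)
    (fun j => (equivShrink _).symm j.2)
  let s₀ : St := ⟨∐ fun j : J => P⟦j.1⟧, x₀, hS.sigma J _ fun j => hP _⟩
  let seq : ℕ → St := fun n => Nat.rec s₀ (fun _ s => step s) n
  let G : ℕ ⥤ D := Functor.ofSequence (X := fun n => (seq n).1) fun n => t (seq n)
  have hGmap : ∀ n, G.map (homOfLE (Nat.le_succ n)) = t (seq n) := fun n => Functor.ofSequence_map_homOfLE_succ _ n
  obtain ⟨N, q, r, hN⟩ := distinguished_cocone_triangle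
    (𝟙 (∐ G.obj) - DerLim.shiftMap G.obj fun n => G.map (homOfLE (Nat.le_succ n)))
  let j : ∀ n, G.obj n ⟶ N := fun n => Sigma.ι G.obj n ≫ q
  have hq : q = Sigma.desc j := Sigma.hom_ext _ _ fun n => by simp [j]
  have hL : DerLim.IsHocolim G.obj (fun n => G.map (homOfLE (Nat.le_succ n))) N j := ⟨r, hq ▸ hN⟩
  have hj : ∀ n, t (seq n) ≫ j (n + 1) = j n := fun n => by
    have h1 := congrArg (fun z => Sigma.ι G.obj n ≫ z) (comp_distTriang_mor_zero₁₂ _ hN)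
    simp [DerLim.shiftMap, Preadditive.sub_comp, Preadditive.comp_sub, sub_eq_zero] at h1
    rw [← hGmap n]
    exact h1.symm.trans (congrArg (_ ≫ ·) (Category.id_comp _))
  have hSG : ∀ k, S (G.obj k) := fun k => (seq k).2.2
  obtain ⟨xs, hxs⟩ := exists_glue' σ G.obj (hcN _ hSG) fun n => (seq n).2.1
  have hx : σ.pull (𝟙 (∐ G.obj) - DerLim.shiftMap G.obj fun n => G.map (homOfLE (Nat.le_succ n))) xs = 0 :=
    glue_ext' σ _ (hcN _ hSG) _ _ fun n => by
      rw [map_zero, ← pull_comp, Preadditive.comp_sub, Category.comp_id, pull_sub, sub_eq_zero,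
        DerLim.shiftMap, Sigma.ι_desc, pull_comp, hxs, hxs, hGmap]
      exact (ht (seq n)).symm
  have hex : ∃ η : σ.Nat' N, σ.pull q η = xs := exists_pull σ _ hN xs hx
  obtain ⟨η, hη⟩ := hex
  have hjη : ∀ n, σ.pull (j n) η = (seq n).2.1 := fun n => by
    rw [pull_comp, hη, hxs]
  have hSsum : S (∐ G.obj) :=
    hS.iso (Sigma.whiskerEquiv (f := fun k : ULift.{w} ℕ => G.obj k.down) (g := G.obj) Equiv.ulift
      fun _ => Iso.refl _) (hS.sigma _ _ fun k => (seq k.down).2.2)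
  refine ⟨N, η, hS.cone _ hN hSsum hSsum, fun n => ⟨fun a b hab => ?_, fun f => ?_⟩⟩
  · have hfin' : ∀ f : (P⟦n⟧)⟦(-1 : ℤ)⟧ ⟶ ∐ G.obj, FinFac G.obj f := fun f => by
      let e := (shiftFunctorAdd D n (-1 : ℤ)).app P
      obtain ⟨s, hs⟩ := hfin _ G.obj hSG (e.hom ≫ f)
      exact ⟨s, by rwa [Category.assoc, cancel_epi] at hs⟩
    have H := DCompact9.hom_hocolim G hL (P⟦n⟧) (hfin n G.obj hSG) hfin'
    obtain ⟨m, y, hy⟩ := H.1 (a - b)
    have hy0 : σ.pull y (seq m).2.1 = 0 := by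
      rw [← hjη m, ← pull_comp, hy, pull_sub]
      exact sub_eq_zero.2 hab
    refine sub_eq_zero.1 (hy.symm.trans ?_)
    rw [← hj m, ← Category.assoc]
    exact (congrArg (· ≫ j (m + 1)) (hkill (seq m) n y hy0)).trans zero_comp
  · refine ⟨Sigma.ι (fun j : J => P⟦j.1⟧) ⟨n, equivShrink _ f⟩ ≫ j 0, ?_⟩
    show σ.pull (_ ≫ j 0) η = f
    rw [pull_comp, hjη 0]
    exact (hx₀ _).trans ((equivShrink _).symm_apply_apply f)

include hS hP hSh hfin hgen hc hcN hsmall in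
/-- A universal class on the whole subcategory. -/
theorem exists_rep : ∃ (N : D) (η : σ.Nat' N), S N ∧
    ∀ Q, S Q → Function.Bijective fun f : Q ⟶ N => σ.pull f η := by
  obtain ⟨N, η, hN, hη⟩ := exists_tower_nat σ P hS hP hfin hc hcN hsmall
  let B : D → Prop := fun Q => Function.Bijective fun f : Q ⟶ N => σ.pull f η
  let S' : D → Prop := fun Q => S Q ∧ ∀ n : ℤ, B (Q⟦n⟧)
  have bIso : ∀ {A C : D}, (A ≅ C) → B A → B C := fun {A C} e hA => by
    refine ⟨fun f g hfg => ?_, fun y => ?_⟩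
    · rw [← cancel_epi e.hom]
      refine hA.1 ?_
      dsimp only at hfg ⊢
      rw [pull_comp, pull_comp, hfg]
    · obtain ⟨f, hf⟩ := hA.2 (σ.pull e.hom y)
      refine ⟨e.inv ≫ f, ?_⟩
      dsimp only at hf ⊢
      rw [pull_comp, hf, ← pull_comp, e.inv_hom_id, pull_id]
  have hiso : ∀ {A C : D}, (A ≅ C) → S' A → S' C := fun e h =>
    ⟨hS.iso e h.1, fun n => bIso ((shiftFunctor D n).mapIso e) (h.2 n)⟩
  have hS' : DGen9.CoclosedClass.{w} S' := by
    refine ⟨hiso, fun κ Y hY => ⟨hS.sigma κ Y fun i => (hY i).1, fun n => ?_⟩,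
      fun T hT h₁ h₂ => ⟨hS.cone T hT h₁.1 h₂.1, fun n => ?_⟩⟩
    · haveI : PreservesColimitsOfShape (Discrete κ) (shiftFunctor D n) := inferInstance
      refine bIso (asIso (sigmaComparison (shiftFunctor D n) Y)) ?_
      let Z : κ → D := fun i => (Y i)⟦n⟧
      have hZ := hc κ Z fun i => hSh _ (hY i).1 n
      refine ⟨fun f g hfg => Sigma.hom_ext _ _ fun i => ((hY i).2 n).1 ?_, fun y => ?_⟩
      · dsimp only at hfg ⊢
        rw [pull_comp, pull_comp, hfg]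
      · choose f hf using fun i => ((hY i).2 n).2 (σ.pull (Sigma.ι Z i) y)
        refine ⟨Sigma.desc f, glue_ext' σ Z hZ _ _ fun i => ?_⟩
        rw [← pull_comp, Sigma.ι_desc]
        exact hf i
    · suffices key : ∀ Tn : Triangle D, Tn ∈ distTriang D → B Tn.obj₁ → B Tn.obj₂ → B (Tn.obj₁⟦(1 : ℤ)⟧) →
          B (Tn.obj₂⟦(1 : ℤ)⟧) → B Tn.obj₃ from
        key _ (Triangle.shift_distinguished T hT n) (h₁.2 n) (h₂.2 n)
          (bIso ((shiftFunctorAdd' D n 1 (n + 1) rfl).app T.obj₁) (h₁.2 (n + 1)))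
          (bIso ((shiftFunctorAdd' D n 1 (n + 1) rfl).app T.obj₂) (h₂.2 (n + 1)))
      intro Tn hTn b₁ b₂ b₁' b₂'
      have hr := rot_of_distTriang _ hTn
      have hr₂ := rot_of_distTriang _ hr
      refine ⟨fun f g hfg => sub_eq_zero.1 ?_, fun y => ?_⟩
      · let φ := f - g
        have hφ : σ.pull φ η = 0 := by
          show σ.pull (f - g) η = 0
          rw [pull_sub, sub_eq_zero]
          exact hfg
        have h0 : Tn.mor₂ ≫ φ = 0 := b₂.1 (by
          show σ.pull (Tn.mor₂ ≫ φ) η = σ.pull 0 η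
          rw [pull_comp, hφ, map_zero, pull_zero])
        obtain ⟨ψ, hψ⟩ := Triangle.yoneda_exact₃ _ hTn φ h0
        obtain ⟨χ, hχ⟩ := exists_pull σ _ hr₂ (σ.pull ψ η) (by
          show σ.pull Tn.mor₃ (σ.pull ψ η) = 0
          rw [← pull_comp, ← hψ, hφ])
        obtain ⟨χ', hχ'⟩ := b₂'.2 χ
        have hψ' : ψ = Tn.rotate.rotate.mor₂ ≫ χ' := b₁'.1 (by
          show σ.pull ψ η = σ.pull (Tn.rotate.rotate.mor₂ ≫ χ') η
          rw [pull_comp]
          exact hχ.symm.trans (congrArg (σ.pull Tn.rotate.rotate.mor₂) hχ').symm)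
        show φ = 0
        rw [hψ, hψ', ← Category.assoc]
        exact (congrArg (· ≫ χ') (comp_distTriang_mor_zero₁₂ _ hr₂)).trans zero_comp
      · obtain ⟨f, hf⟩ := b₂.2 (σ.pull Tn.mor₂ y)
        have h0 : Tn.mor₁ ≫ f = 0 := b₁.1 (by
          show σ.pull (Tn.mor₁ ≫ f) η = σ.pull 0 η
          rw [pull_comp, show σ.pull f η = _ from hf, ← pull_comp, comp_distTriang_mor_zero₁₂ _ hTn,
            pull_zero, pull_zero])
        obtain ⟨z, hz⟩ := Triangle.yoneda_exact₂ _ hTn f h0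
        obtain ⟨v₀, hv⟩ := exists_pull σ _ hr (y - σ.pull z η) (by
          show σ.pull Tn.mor₂ (y - σ.pull z η) = 0
          rw [map_sub, sub_eq_zero, ← pull_comp, ← hz]
          exact hf.symm)
        obtain ⟨v', hv'⟩ := b₁'.2 v₀
        refine ⟨z + Tn.mor₃ ≫ v', ?_⟩
        show σ.pull (z + Tn.mor₃ ≫ v') η = y
        rw [pull_add, pull_comp, show σ.pull v' η = v₀ from hv',
          show σ.pull Tn.mor₃ v₀ = y - σ.pull z η from hv]
        exact add_sub_cancel _ _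
  have hP' : ∀ n : ℤ, S' (P⟦n⟧) := fun n => ⟨hP n, fun m =>
    bIso ((shiftFunctorAdd D n m).app P) (hη (n + m))⟩
  refine ⟨N, η, hN, fun Q hQ => ?_⟩
  obtain ⟨Q', e, hQ', he⟩ := DGen9.exists_tower_obj P hS' hP' (fun n X hX => hfin n X fun i => (hX i).1) Q
  obtain ⟨Z, a, b, hTe⟩ := distinguished_cocone_triangle e
  have hZ : IsZero Z := hgen Z (hS.cone _ hTe hQ'.1 hQ) (DGen9.eq_zero_of_bijective hTe he)
  haveI : IsIso e := (Triangle.isZero₃_iff_isIso₁ _ hTe).1 hZ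
  exact bIso ((shiftFunctorZero D ℤ).app Q) ((hiso (asIso e) hQ').2 0)

end Groth.Agent.BvdB9
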