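import Groth.Agent.Lib.BvdB9.Adjoints
import Groth.Agent.Lib.PtSky9.Range
import Groth.Agent.S6720
import Groth.Agent.S6703
import Groth.Agent.Lib.LimFun.Basic

/-! Point sheaves span the category of perfect objects of a regular proper scheme. -/

set_option autoImplicit false
set_option linter.unusedSectionVars false
set_option linter.style.haveILetI false
set_option backward.isDefEq.respectTransparency false
set_option backward.isDefEq.respectTransparency.types false
set_option maxHeartbeats 1600000

universe u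

open CategoryTheory CategoryTheory.Limits AlgebraicGeometry CategoryTheory.Pretriangulated Opposite

attribute [local instance] HasDerivedCategory.standard

noncomputable section

namespace Groth.Agent.BvdB9

variable (k : Type u) [Field k] {X : Scheme.{u}} [X.Over (Spec (CommRingCat.of k))]
  [IsProper (X ↘ Spec (CommRingCat.of k))] [(SGA6.perfP X).IsTriangulated]

/-- The skyscraper at a point. -/
abbrev ptObj (x : X) : DCoh.D X :=
  DCoh.inD X ((Coh.push (X.fromSpecResidueField x)).obj (Coh.structureModule _))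

variable (X) in
/-- The skyscrapers at closed points, as perfect objects. -/
def ptSet : Set (SGA6.perfP X).FullSubcategory :=
  {E | ∃ (x : X) (h : DCoh.IsPerfect (ptObj x)), IsClosed ({x} : Set X) ∧ E = ⟨ptObj x, h⟩}

include k in
theorem isPerfect_ptObj (hreg : Models.IsRegularScheme X) {x : X} (hx : IsClosed ({x} : Set X)) :
    DCoh.IsPerfect (ptObj x) := by
  haveI : IsLocallyNoetherian X := LocallyOfFiniteType.isLocallyNoetherian (X ↘ Spec (CommRingCat.of k))
  haveI : CompactSpace X := QuasiCompact.compactSpace_of_compactSpace (X ↘ Spec (CommRingCat.of k))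
  haveI : AlgebraicGeometry.IsNoetherian X := { }
  exact PtSky9.isPerfect_skyO hreg hx

include k in
theorem isZero_of_nhds {K : DCoh.D X}
    (h : ∀ x : X, IsClosed ({x} : Set X) →
      ∃ U : X.Opens, x ∈ U ∧ ∀ (i : ℤ) (y : X), y ∈ U → y ∉ CohB1.support (DCoh.HD K i)) : IsZero K := by
  haveI : CompactSpace X := QuasiCompact.compactSpace_of_compactSpace (X ↘ Spec (CommRingCat.of k))
  refine DPush.isZero_of_isZero_HD K fun i => LimFun.isZero_of_support_eq_empty (Set.eq_empty_iff_forall_notMem.2 fun y => ?_)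
  obtain ⟨x, hxy, hxc⟩ := (isClosed_closure (s := ({y} : Set X))).exists_closed_singleton ⟨y, subset_closure rfl⟩
  obtain ⟨U, hxU, hU⟩ := h x hxc
  obtain ⟨z, hzU, hz⟩ := mem_closure_iff.1 hxy (U : Set X) U.2 hxU
  obtain rfl : z = y := hz
  exact hU i z hzU

variable {Y : Scheme.{u}} [Y.Over (Spec (CommRingCat.of k))] [IsProper (Y ↘ Spec (CommRingCat.of k))]
  [(SGA6.perfP Y).IsTriangulated]
  (F : (SGA6.perfP X).FullSubcategory ⥤ (SGA6.perfP Y).FullSubcategory) [F.Additive] [F.Linear k]
  [F.CommShift ℤ] [F.IsTriangulated]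

include k in
/-- Full faithfulness is tested on point sheaves. -/
theorem fullyFaithful_iff (hreg : Models.IsRegularScheme X) :
    (F.Full ∧ F.Faithful) ↔
      ∀ (x x' : X), IsClosed ({x} : Set X) → IsClosed ({x'} : Set X) →
        ∀ (hx : DCoh.IsPerfect (ptObj x)) (hx' : DCoh.IsPerfect (ptObj x')) (i : ℤ),
          Function.Bijective (fun f : (⟨ptObj x, hx⟩ : (SGA6.perfP X).FullSubcategory) ⟶
              (shiftFunctor ((SGA6.perfP X).FullSubcategory) i).obj ⟨ptObj x', hx'⟩ => F.map f) := by
  refine ⟨fun ⟨h₁, h₂⟩ x x' _ _ _ _ i => ?_, fun h => ?_⟩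
  · haveI := h₁
    haveI := h₂
    exact (Functor.FullyFaithful.ofFullyFaithful F).map_bijective _ _
  haveI : CompactSpace X := QuasiCompact.compactSpace_of_compactSpace (X ↘ Spec (CommRingCat.of k))
  obtain ⟨hl, hr⟩ := adjoints k hreg F
  let ι := ObjectProperty.ι (SGA6.perfP X)
  refine S6703.result F (ptSet X) (fun K hK => ?_) (fun K hK => ?_) ?_
  · refine IsZero.of_full_of_faithful_of_isZero ι K (isZero_of_nhds k fun x hx => ?_)
    refine (S6720.result k X hreg x hx K.obj K.property).1 fun i φ => ?_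
    let E : (SGA6.perfP X).FullSubcategory := ⟨ptObj x, isPerfect_ptObj k hreg hx⟩
    let ψ : E ⟶ K⟦i⟧ := (ObjectProperty.fullyFaithfulι _).preimage (φ ≫ ((ι.commShiftIso i).app K).inv :)
    have h0 : ψ = 0 := hK E ⟨x, _, hx, rfl⟩ i ψ
    have h1 : φ ≫ ((ι.commShiftIso i).app K).inv = 0 := by
      rw [← (ObjectProperty.fullyFaithfulι _).map_preimage (X := E) (Y := K⟦i⟧) (φ ≫ ((ι.commShiftIso i).app K).inv :)]
      show ι.map ψ = 0
      rw [h0, Functor.map_zero]
    exact (cancel_mono ((ι.commShiftIso i).app K).inv).1 (h1.trans zero_comp.symm)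
  · refine IsZero.of_full_of_faithful_of_isZero ι K (isZero_of_nhds k fun x hx => ?_)
    refine (S6720.result k X hreg x hx K.obj K.property).2 fun i φ => ?_
    let E : (SGA6.perfP X).FullSubcategory := ⟨ptObj x, isPerfect_ptObj k hreg hx⟩
    let ψ : K ⟶ E⟦i⟧ := (ObjectProperty.fullyFaithfulι _).preimage (φ ≫ ((ι.commShiftIso i).app E).inv :)
    have h0 : ψ = 0 := hK E ⟨x, _, hx, rfl⟩ i ψ
    have h1 : φ ≫ ((ι.commShiftIso i).app E).inv = 0 := by
      rw [← (ObjectProperty.fullyFaithfulι _).map_preimage (X := K) (Y := E⟦i⟧) (φ ≫ ((ι.commShiftIso i).app E).inv :)]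
      show ι.map ψ = 0
      rw [h0, Functor.map_zero]
    exact (cancel_mono ((ι.commShiftIso i).app E).inv).1 (h1.trans zero_comp.symm)
  · rintro _ ⟨x, hx, hxc, rfl⟩ _ ⟨x', hx', hxc', rfl⟩ i
    exact h x x' hxc hxc' hx hx' i

end Groth.Agent.BvdB9
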